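import Mathlib
import Cfsg.Agent.PTr.A
import Cfsg.Agent.Root.RD4

/-! Odd transpositions: elementary lemmas. -/

namespace Cfsg.Agent.OTr

open Subgroup Cfsg.Agent.PTr Cfsg.Agent.Root

variable {G : Type*} [Group G] {D : Set G}

/-- a set of odd transpositions, closed under conjugation by itself -/
structure OT (D : Set G) : Prop where
  two : ∀ d ∈ D, orderOf d = 2
  conjD : ∀ d ∈ D, ∀ e ∈ D, e * d * e ∈ D
  ord : ∀ a ∈ D, ∀ b ∈ D, Commute a b ∨ Odd (orderOf (a * b))

theorem comm_of_sq_odd {u x : G} (ho : Odd (orderOf u)) (h : Commute (u * u) x) : Commute u x := by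
  obtain ⟨k, hk⟩ := exists_sq_pow_of_odd ho
  rw [← hk]; exact h.pow_left k

theorem semi {x y : G} (hx : x * x = 1) (hy : y * y = 1) : SemiconjBy x (x * y) (x * y)⁻¹ := by
  rw [SemiconjBy, mul_inv_rev, inv_eq hx, inv_eq hy, ← mul_assoc, hx, mul_assoc y, hx]; simp

theorem comm_cl {S : Set G} {z g : G} (h : ∀ s ∈ S, Commute z s) (hg : g ∈ closure S) :
    Commute z g :=
  (mem_centralizer_singleton_iff.1 ((closure_le (centralizer {z})).2
    (fun s hs => mem_centralizer_singleton_iff.2 (h s hs).symm.eq) hg) : _ = _).symm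

namespace OT

variable (h : OT D)
include h

theorem ri : RI D := ⟨h.two, h.conjD, fun a ha b hb => (h.ord a ha b hb).imp Commute.eq Or.inl⟩

theorem sq {a : G} (ha : a ∈ D) : a * a = 1 := h.ri.sq ha

theorem odd {a b : G} (ha : a ∈ D) (hb : b ∈ D) (hn : ¬ Commute a b) : Odd (orderOf (a * b)) :=
  (h.ord a ha b hb).resolve_left hn

theorem sub {E : Set G} (hE : E ⊆ D) (hc : ∀ d ∈ E, ∀ e ∈ E, e * d * e ∈ E) : OT E :=
  ⟨fun d hd => h.two d (hE hd), hc, fun a ha b hb => h.ord a (hE ha) b (hE hb)⟩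

theorem comm_of_nc {x s v : G} (hx : x ∈ D) (hs : s ∈ D) (hn : ¬ Commute x s) (h1 : Commute v x)
    (h2 : Commute v (s * x * s)) : Commute v s :=
  comm_of_odd (h.sq hx) (h.odd hx hs hn) h1.eq h2.eq

theorem nc_conj {x s : G} (hx : x ∈ D) (hs : s ∈ D) (hn : ¬ Commute x s) :
    ¬ Commute x (s * x * s) := fun hc => hn (h.comm_of_nc hx hs hn (Commute.refl x) hc)

/-- Lemma A -/
theorem comm_of_comm_mul {w x z : G} (hw : w ∈ D) (hx : x ∈ D) (hz : z ∈ D) (hn : ¬ Commute x z)
    (hc : Commute w (x * z)) : Commute w x := by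
  by_contra hwx
  have h1 := semi (h.sq hx) (h.sq hz)
  have h2 : SemiconjBy (w * x) (x * z) (x * z)⁻¹ := hc.inv_right.semiconjBy.mul_left h1
  have h3 : SemiconjBy (w * x) (x * z)⁻¹ (x * z) := by simpa using h2.inv_right
  have h5 := comm_of_sq_odd (h.odd hw hx hwx) (h3.mul_left h2)
  have h6 : (x * z)⁻¹ = x * z := mul_right_cancel (h2.eq.symm.trans h5.eq)
  exact hn (comm_of_sq (h.sq hx) (h.sq hz) (by nth_rewrite 1 [← h6]; rw [inv_mul_cancel]))

/-- Lemma B -/
theorem eq_of_comm_mul {a b c : G} (ha : a ∈ D) (hb : b ∈ D) (hc : c ∈ D) (hab : Commute a b)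
    (h1 : ¬ Commute a c) (h2 : ¬ Commute b c) (h3 : Commute c (a * b)) : a = b := by
  have t1 : Commute (a * b) (a * c) :=
    ((Commute.refl a).mul_left hab.symm).mul_right h3.symm
  have t2 : b * c = a * b * (a * c) := by
    rw [hab.eq, mul_assoc, ← mul_assoc a, h.sq ha, one_mul]
  have o := (h.odd hb hc h2).mul (h.odd ha hc h1)
  have t3 : (b * c) ^ (orderOf (b * c) * orderOf (a * c)) = 1 := by
    rw [pow_mul, pow_orderOf_eq_one, one_pow]
  nth_rewrite 1 [t2] at t3
  rw [t1.mul_pow, pow_mul' (a * c), pow_orderOf_eq_one, one_pow, mul_one,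
    pow_odd_of_sq (sq_of_comm (h.sq ha) (h.sq hb) hab) o] at t3
  rw [← inv_eq (h.sq hb)]; exact eq_inv_of_mul_eq_one_left t3

theorem comm_left {x y w : G} (hx : x ∈ D) (hy : y ∈ D) (hw : w ∈ D) (hxy : Commute x y)
    (hne : x ≠ y) (hc : Commute w (x * y)) : Commute w x := by
  by_contra h1
  refine hne (h.eq_of_comm_mul hx hy hw hxy (fun e => h1 e.symm) (fun e => h1 ?_) hc)
  have := hc.mul_right e.symm
  rwa [mul_assoc, h.sq hy, mul_one] at this

theorem comm_of_mul {a b : G} (ha : a ∈ D) (hb : b ∈ D) (hab : a * b ∈ D) : Commute a b :=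
  h.ri.comm_of_mul_mem ha hb hab

theorem ne_of_mul {a b : G} (ha : a ∈ D) (hab : a * b ∈ D) : a ≠ b := by
  rintro rfl; exact h.ri.ne_one hab (h.sq ha)

/-- the members of a triple `a, b, a b` have the same commuting members -/
theorem tri {a b v : G} (ha : a ∈ D) (hb : b ∈ D) (hab : a * b ∈ D) (hv : v ∈ D)
    (hc : Commute v a) : Commute v b := by
  have c := h.comm_of_mul ha hb hab
  refine h.comm_left hb hab hv (c.symm.mul_right (Commute.refl b))
    (fun e => h.ri.ne_one ha (by simpa using e)) ?_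
  rwa [c.eq, ← mul_assoc, h.sq hb, one_mul]

theorem tri' {a b v : G} (ha : a ∈ D) (hb : b ∈ D) (hab : a * b ∈ D) (hv : v ∈ D)
    (hc : Commute v b) : Commute v a :=
  h.tri hb ha (by rwa [← (h.comm_of_mul ha hb hab).eq]) hv hc

theorem mid_unique {c s s' : G} (hc : c ∈ D) (hs : s ∈ D) (hs' : s' ∈ D) (hn : ¬ Commute s c)
    (e : s * c * s = s' * c * s') : s = s' := by
  have hn' : ¬ Commute s' c := fun k => hn (by
    rw [k.eq, mul_assoc c, h.sq hs', mul_one] at e
    rw [Commute, SemiconjBy]; nth_rewrite 2 [← e]; rw [mul_assoc _ s s, h.sq hs, mul_one])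
  have k : Commute c (s * s') := by
    have : c * (s * s') = s * (s * c * s) * s' := by
      rw [← mul_assoc s, ← mul_assoc s, h.sq hs, one_mul, mul_assoc]
    rw [Commute, SemiconjBy, this, e]
    simp only [mul_assoc, h.sq hs', mul_one]
  by_cases k1 : Commute s s'
  · exact h.eq_of_comm_mul hs hs' hc k1 hn hn' k
  · exact absurd (h.comm_of_comm_mul hc hs hs' k1 k).symm hn

theorem swap {a b : G} (ha : a ∈ D) (hb : b ∈ D) (hn : ¬ Commute a b) :
    ∃ m ∈ D, m ∈ closure ({a, b} : Set G) ∧ m * a * m = b ∧ ¬ Commute m a := by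
  obtain ⟨m, hm, k, e⟩ := h.ri.midpoint ha hb (h.odd ha hb hn)
  refine ⟨m, hm, k, e, fun c => hn ?_⟩
  rw [← e, c.eq, mul_assoc, h.sq hm, mul_one]

/-- the involution of `D` conjugating `c` as the involution `t` does -/
theorem mid {c t : G} (hc : c ∈ D) (ht : t ∈ closure D) (t2 : t * t = 1)
    (hn : ¬ Commute c (t * c * t)) : ∃ y ∈ D, y ∈ closure ({c, t} : Set G) ∧ ¬ Commute y c ∧
      Commute y t ∧ Commute c (t * y) := by
  have cj : ∀ d ∈ D, t * d * t ∈ D := fun d hd => by
    simpa only [inv_eq t2] using h.ri.conj_mem ht hd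
  obtain ⟨y, hy, k, e, n⟩ := h.swap hc (cj c hc) hn
  have y2 := h.sq hy
  have e1 : y * (t * c * t) * y = c := by
    rw [← e]; simp only [mul_assoc, y2, mul_one, mul_mul_of_sq y2]
  have e2 : y = t * y * t := h.mid_unique hc hy (cj y hy) n (by
    rw [e]; nth_rewrite 1 [← e1]; simp only [mul_assoc])
  have e3 : Commute y t := by
    rw [Commute, SemiconjBy]; nth_rewrite 1 [e2]; rw [mul_assoc _ t t, t2, mul_one]
  refine ⟨y, hy, (closure_le _).2 ?_ k, n, e3, ?_⟩
  · rintro _ (rfl | rfl)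
    · exact subset_closure (by simp)
    · exact mul_mem (mul_mem (subset_closure (by simp)) (subset_closure (by simp)))
        (subset_closure (by simp))
  · rw [Commute, SemiconjBy]; nth_rewrite 1 [← e1]
    rw [← e3.eq]; simp only [mul_assoc, mul_mul_of_sq y2, t2, mul_one]

theorem exists_nc {a a' b c : G} (ha : a ∈ D) (ha' : a' ∈ D) (haa : a * a' ∈ D) (hb : b ∈ D)
    (hc : c ∈ D) (hab : Commute a b) (hn : ¬ Commute c a) :
    ¬ Commute c (a * b * c * (a * b)) ∨ ¬ Commute c (a' * b * c * (a' * b)) := by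
  by_contra! H
  obtain ⟨h1, h2⟩ := H
  have c1 := h.comm_of_mul ha ha' haa
  have c2 : Commute a' b := (h.tri ha ha' haa hb hab.symm).symm
  have g2 := h.sq haa
  have n : ¬ Commute c (a * a') := fun k => hn (h.comm_left ha ha' hc c1 (h.ne_of_mul ha haa) k)
  have cg : Commute (a * b) (a * a') :=
    (((Commute.refl a).mul_right c1).mul_left (hab.symm.mul_right c2.symm))
  have e : a' * b = a * a' * (a * b) := by
    rw [c1.eq, mul_assoc, mul_mul_of_sq (h.sq ha)]
  have t2 := sq_of_comm (h.sq ha) (h.sq hb) hab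
  generalize a * b = t at h1 e cg t2
  generalize a * a' = g at haa g2 n cg e
  have h3 : Commute (t * c * t) (g * c * g) := by
    have := h2.conj g
    rw [e, inv_eq g2] at this
    nth_rewrite 2 [← cg.eq] at this
    simp only [mul_assoc, mul_mul_of_sq g2, g2, mul_one] at this ⊢
    exact this.symm
  have h4 := (h.comm_of_nc hc haa n h1.symm h3).conj t
  rw [cg.eq, inv_eq t2] at h4
  simp only [mul_assoc, mul_mul_of_sq t2, t2, mul_one] at h4
  exact n h4

/-- the central involution `j = a b w` -/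
structure Cen (D : Set G) (a b c w : G) : Prop where
  mem : w ∈ D
  cl : w ∈ closure ({c, a * b} : Set G)
  wc : ¬ Commute w c
  wa : Commute w a
  wb : Commute w b
  jc : Commute c (a * b * w)

theorem exists_cen {a b c : G} (ha : a ∈ D) (hb : b ∈ D) (hc : c ∈ D) (hab : Commute a b)
    (hne : a ≠ b) (hn : ¬ Commute c (a * b * c * (a * b))) : ∃ w, Cen D a b c w := by
  obtain ⟨w, hw, k1, k2, k3, k4⟩ := h.mid hc (mul_mem (subset_closure ha) (subset_closure hb))
    (sq_of_comm (h.sq ha) (h.sq hb) hab) hn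
  exact ⟨w, hw, k1, k2, h.comm_left ha hb hw hab hne k3,
    h.comm_left hb ha hw hab.symm hne.symm (hab.eq ▸ k3), k4⟩

theorem cen_ab {a b c w v : G} (ha : a ∈ D) (hb : b ∈ D) (C : Cen D a b c w) (hca : ¬ Commute c a)
    (hv : v ∈ D) (hj : Commute v (a * b * w)) (hva : Commute v a) : Commute v b := by
  refine h.comm_left hb C.mem hv C.wb.symm (fun e => hca ?_) ?_
  · have := C.jc
    rwa [← e, mul_assoc, h.sq hb, mul_one] at this
  · have := hva.mul_right hj
    rwa [mul_assoc, mul_mul_of_sq (h.sq ha)] at this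

theorem cen_ba {a b c w v : G} (ha : a ∈ D) (hb : b ∈ D) (hab : Commute a b) (C : Cen D a b c w)
    (hcb : ¬ Commute c b) (hv : v ∈ D) (hj : Commute v (a * b * w)) (hvb : Commute v b) :
    Commute v a :=
  h.cen_ab hb ha ⟨C.mem, hab.eq ▸ C.cl, C.wc, C.wb, C.wa, hab.eq ▸ C.jc⟩ hcb hv (hab.eq ▸ hj) hvb

theorem cen_w {a b w v : G} (ha : a ∈ D) (hb : b ∈ D) (hj : Commute v (a * b * w))
    (hva : Commute v a) (hvb : Commute v b) : Commute v w := by
  have := hvb.mul_right (hva.mul_right hj)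
  rwa [mul_assoc a, mul_mul_of_sq (h.sq ha), mul_mul_of_sq (h.sq hb)] at this

end OT

end Cfsg.Agent.OTr
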