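import Mathlib
import Cfsg.Agent.OTr.A

/-! Odd transpositions with a disconnected commuting graph. -/

namespace Cfsg.Agent.OTr

open Subgroup Cfsg.Agent.PTr Cfsg.Agent.Root Cfsg.Agent.RankOne

section Setup

variable {G Ω : Type*} [Group G] [Finite G] [MulAction G Ω] [FaithfulSMul G Ω] {a : Ω} {t : G}
  {Q : Subgroup G} (hS : Cfsg.IsRankOneSetup G Ω a t Q) (h2 : Suz.TwoRank G)
include hS

omit [Finite G] [FaithfulSMul G Ω] in
theorem fix_of_comm {u v : G} {c : Ω} (u1 : u ≠ 1) (u2 : u * u = 1) (hc : u • c = c)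
    (k : Commute u v) : v • c = c :=
  Setup.fix_unique hS u1 u2 (by rw [smul_smul, k.eq, ← smul_smul, hc]) hc

omit [Finite G] [FaithfulSMul G Ω] in
theorem mem_Q_of_four {y : G} (hy : y • a = a) (h4 : y * y * (y * y) = 1) : y ∈ Q := by
  have h1 : y * y ∈ Q := Setup.mem_Q_of_mul_self hS (by rw [mul_smul, hy, hy]) h4
  obtain ⟨q, hq, d, d1, d2, rfl⟩ := Setup.exists_mul hS hy
  have h3 : d * d ∈ Q := by
    have := mul_mem (inv_mem (Setup.conj_mem' hS d1 hq)) (mul_mem (inv_mem hq) h1)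
    simpa [mul_assoc] using this
  exact mul_mem hq (Setup.mem_Q_of_mul_self hS d1
    (Setup.eq_one_of_fix_b hS h3 (by rw [mul_smul, d2, d2])))

include h2

theorem comm_of_fix {u v : G} {c : Ω} (u2 : u * u = 1) (v2 : v * v = 1) (hu : u • c = c)
    (hv : v • c = c) : Commute u v := by
  obtain ⟨g, rfl⟩ := Setup.exists_smul_eq hS a c
  have hS' := Setup.conj hS g
  obtain ⟨F, _, _, _, ⟨Z⟩⟩ := Suz.exists_ZF hS' h2
  obtain ⟨b, rfl⟩ := Z.z_surj _ (Setup.mem_Q_of_mul_self hS' hu u2) u2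
  exact Z.z_comm b (Setup.mem_Q_of_mul_self hS' hv v2)

theorem exists_fixed (α : G →* G) (ht : α t = t) {d : G} (d2 : d * d = 1)
    (hd : d • a = a) (a1 : α d ≠ 1) (d1 : d ≠ 1) (k : Commute d (α d)) :
    ∃ u : G, u ≠ 1 ∧ u * u = 1 ∧ u • a = a ∧ α u = u := by
  have a2 : α d * α d = 1 := by rw [← map_mul, d2, map_one]
  have a3 : α d • a = a := fix_of_comm hS d1 d2 hd k
  have st : ∀ g : G, g • a = a → α g • a = a := fun g hg => by
    have c := (comm_of_fix hS h2 d2 (v := g * d * g⁻¹)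
      (by rw [show g * d * g⁻¹ * (g * d * g⁻¹) = g * (d * d) * g⁻¹ by group, d2]; simp) hd
      (by rw [mul_smul, mul_smul, inv_smul_eq_iff.2 hg.symm, hd, hg])).map α
    have e := fix_of_comm hS a1 a2 a3 c
    rw [map_mul, map_mul, map_inv, mul_smul, mul_smul, smul_eq_iff_eq_inv_smul] at e
    exact (inv_smul_eq_iff.1 (Setup.fix_unique hS a1 a2 e a3)).symm
  obtain ⟨b, hb⟩ := Setup.exists_fix hS hS.mul_self
  have hba : b ≠ a := by rintro rfl; exact Setup.ta_ne hS hb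
  obtain ⟨q, hq, e⟩ := Setup.exists_smul_b hS hba
  have q4 : q * q * (q * q) = 1 := by
    have := (Suz.weak hS h2).pow_four q hq
    simpa [pow_succ, mul_assoc] using this
  have hq' : α q ∈ Q := mem_Q_of_four hS (st q (Setup.smul_a_of_mem hS hq))
    (by simp only [← map_mul, q4, map_one])
  have e1 := st (t * q⁻¹ * t * q * t) (by
    simp only [mul_smul]; rw [e, hb, ← e, inv_smul_smul, Setup.t_t_smul hS])
  simp only [map_mul, map_inv, ht, mul_smul] at e1
  have e2 : t • α q • t • a = α q • t • a := by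
    have := congrArg (fun c => α q • t • c) e1
    simpa only [Setup.t_t_smul hS, smul_inv_smul] using this
  have e3 : α q = q := Setup.eq_of_smul_eq hS hq' hq (Setup.ta_ne hS)
    ((Setup.fix_unique hS hS.ne_one hS.mul_self e2 hb).trans e.symm)
  by_cases k2 : q * q = 1
  · refine ⟨q, ?_, k2, Setup.smul_a_of_mem hS hq, e3⟩
    rintro rfl
    rw [one_smul] at e
    rw [← e, Setup.t_t_smul hS] at hb
    exact Setup.ta_ne hS hb.symm
  · exact ⟨q * q, k2, q4, Setup.smul_a_of_mem hS (mul_mem hq hq), by rw [map_mul, e3]⟩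

end Setup

variable {G : Type*} [Group G] {D : Set G}

theorem OT.map (h : OT D) {H : Type*} [Group H] (f : G →* H) (hk : ∀ d ∈ D, f d ≠ 1) :
    OT (f '' D) where
  two := by
    rintro _ ⟨d, hd, rfl⟩
    exact orderOf_eq_prime (by rw [pow_two, ← map_mul, h.sq hd, map_one]) (hk d hd)
  conjD := by
    rintro _ ⟨d, hd, rfl⟩ _ ⟨e, he, rfl⟩
    exact ⟨_, h.conjD d hd e he, by simp⟩
  ord := by
    rintro _ ⟨d, hd, rfl⟩ _ ⟨e, he, rfl⟩
    refine (h.ord d hd e he).imp (fun k => k.map f) fun k => ?_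
    rw [← map_mul]; exact k.of_dvd_nat (orderOf_map_dvd f _)

theorem OT.lift [Finite G] (h : OT D) {a b : G} (ha : a ∈ D) (hb : b ∈ D)
    (k : Commute (QuotientGroup.mk' (twoZCore G) a) (QuotientGroup.mk' (twoZCore G) b)) :
    Commute a b := by
  by_contra hn
  have o := h.odd ha hb hn
  refine h.ri.not_mem_twoZCore ha hb ⟨fun e => hn (e ▸ Commute.refl a), o⟩
    ((QuotientGroup.eq_one_iff _).1 (eq_one_of_odd_of_sq
      (o.of_dvd_nat (orderOf_map_dvd (QuotientGroup.mk' _) _)) ?_))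
  have := sq_of_comm (by rw [← map_mul, h.sq ha, map_one]) (by rw [← map_mul, h.sq hb, map_one]) k
  rw [← map_mul] at this
  exact this

section Disc

variable [Finite G] (h : OT D) (hD : IsRootInvolutionSet D)
  (hDD : (D ∩ commutingProducts D).Nonempty) {d x : G} (hd : d ∈ D) (hx : x ∈ D) (hn : ¬ Cn D d x)
include h hD hDD hd hx hn

omit h in
theorem disc_tr {a b c : G} (ha : a ∈ D) (hb : b ∈ D) (hc : c ∈ D) (h1 : Commute a b)
    (h2 : Commute b c) : Commute a c :=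
  disc_comm hD hDD hd hx hn ha hc ((cn_of_comm ha hb h1).trans (cn_of_comm hb hc h2))

theorem disc_inv {z : G ⧸ twoZCore G} (z1 : z ≠ 1) (z2 : z * z = 1) :
    ∃ a ∈ D, QuotientGroup.mk' (twoZCore G) a = z := by
  haveI := disc_simple hD hDD hd hx hn
  obtain ⟨H, hH⟩ := disc_se hD hDD hd hx hn
  obtain ⟨t, Q, hS⟩ := Ben.simple_setup hH
  haveI := Ben.faithful_of_simple hH.1
  have hD' := riSet_map hD (QuotientGroup.mk'_surjective (twoZCore G))
    fun a ha => disc_ne_one hD hd hx hn ha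
  have hR := RI.of_set hD'
  obtain ⟨c, hc⟩ := Setup.exists_fix hS z2
  obtain ⟨y, hy, k⟩ : ∃ y ∈ D, QuotientGroup.mk' (twoZCore G) y • c ≠ c := by
    by_contra! H
    exact hn (cn_of_comm hd hx (h.lift hd hx (comm_of_fix hS (disc_twoRank hD hDD hd hx hn)
      (hR.sq ⟨d, hd, rfl⟩) (hR.sq ⟨x, hx, rfl⟩) (H d hd) (H x hx))))
  exact hR.mem_of_odd z2 ⟨y, hy, rfl⟩ (Setup.odd_orderOf_mul hS z1 z2 hc (hR.sq ⟨y, hy, rfl⟩) k)
    hD'.conj_mem

theorem disc_LZ {z s s' : G} (z2 : z * z = 1) (hs : s ∈ D) (hs' : s' ∈ D) (n : ¬ Commute s s')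
    (k : Commute z (s * s')) : Commute z s := by
  have h' := h.map (QuotientGroup.mk' (twoZCore G)) fun a ha => disc_ne_one hD hd hx hn ha
  by_cases z1 : QuotientGroup.mk' (twoZCore G) z = 1
  · have hz : z * s * z ∈ D := by simpa only [inv_eq z2] using hD.conj_mem s hs z
    have e : QuotientGroup.mk' (twoZCore G) (z * s * z) = QuotientGroup.mk' (twoZCore G) s := by
      rw [map_mul, map_mul, z1, one_mul, mul_one]
    have c : Commute s (z * s * z) := h.lift hs hz (by rw [e])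
    have t1 := semi (h.sq hs) (h.sq hs')
    have t2 : SemiconjBy (z * s * z) (s * s')⁻¹ (s * s') :=
      (k.semiconjBy.mul_left (by simpa using t1.inv_right)).mul_left k.inv_right.semiconjBy
    have t3 : Commute (z * s * z * s) (s * s') := t2.mul_left t1
    have t4 := (c.symm.mul_left (Commute.refl s)).mul_right t3
    rw [mul_mul_of_sq (h.sq hs), ← c.eq] at t4
    have e1 := h.eq_of_comm_mul hs hz hs' c n (fun k1 => n (h.lift hs hs' (e ▸ k1.map _))) t4.symm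
    rw [Commute, SemiconjBy]; nth_rewrite 2 [e1]; rw [mul_assoc _ z z, z2, mul_one]
  · obtain ⟨a, ha, e⟩ := disc_inv h hD hDD hd hx hn z1 (by rw [← map_mul, z2, map_one])
    have k1 := k.map (QuotientGroup.mk' (twoZCore G))
    rw [← e, map_mul] at k1
    have k2 := h'.comm_of_comm_mul ⟨a, ha, rfl⟩ ⟨s, hs, rfl⟩ ⟨s', hs', rfl⟩
      (fun k => n (h.lift hs hs' k)) k1
    have k3 := k2.mul_right k1
    rw [mul_mul_of_sq (h'.sq ⟨s, hs, rfl⟩)] at k3
    exact absurd (disc_tr hD hDD hd hx hn hs ha hs' (h.lift ha hs k2).symm (h.lift ha hs' k3)) n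

theorem disc_PZ (β : G ≃* G) (hβ : ∀ y ∈ D, β y ∈ D) (hf : β x = x) (k : Commute d (β d)) :
    ∃ u ∈ D, Commute u d ∧ ∀ w : ℕ → G, w 0 = 1 → (∀ k, w (k + 1) = u * β (w k)) → ∀ m, Odd m →
      (∀ y ∈ D, Commute y (w m) → Commute y d) ∧ ¬ Commute x (w m * x * w m) := by
  haveI := disc_simple hD hDD hd hx hn
  obtain ⟨H, hH⟩ := disc_se hD hDD hd hx hn
  obtain ⟨t, Q, hS⟩ := Ben.simple_setup hH
  haveI := Ben.faithful_of_simple hH.1
  have h2 := disc_twoRank hD hDD hd hx hn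
  have n1 := fun a (ha : a ∈ D) => disc_ne_one hD hd hx hn ha
  have h' := h.map (QuotientGroup.mk' (twoZCore G)) n1
  have hch : (twoZCore G).Characteristic := Characteristic.comap_quotient_mk centerCharacteristic
  let α : G ⧸ twoZCore G →* G ⧸ twoZCore G :=
    QuotientGroup.map _ _ β.toMonoidHom (characteristic_iff_le_comap.1 hch β)
  set π := QuotientGroup.mk' (twoZCore G) with hπ
  have hα : ∀ g, α (π g) = π (β g) := fun g => rfl
  have ndx : ¬ Commute d x := fun k => hn (cn_of_comm hd hx k)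
  obtain ⟨c, hc⟩ := Setup.exists_fix hS (h'.sq ⟨d, hd, rfl⟩)
  obtain ⟨g, rfl⟩ := Setup.exists_smul_eq hS ((1 : G ⧸ twoZCore G) : _ ⧸ H) c
  have hS' := Setup.change_t (Setup.conj hS g) (h'.sq ⟨x, hx, rfl⟩) fun e =>
    ndx (h.lift hd hx (comm_of_fix hS h2 (h'.sq ⟨d, hd, rfl⟩) (h'.sq ⟨x, hx, rfl⟩) hc e))
  obtain ⟨u₀, u1, u2, u3, u4⟩ := exists_fixed hS' h2 α (by rw [hα, hf]) (h'.sq ⟨d, hd, rfl⟩) hc
    (by rw [hα]; exact n1 _ (hβ d hd)) (n1 d hd) (by rw [hα]; exact k.map π)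
  obtain ⟨u, hu, rfl⟩ := disc_inv h hD hDD hd hx hn u1 u2
  have ud : Commute u d := h.lift hu hd (comm_of_fix hS h2 u2 (h'.sq ⟨d, hd, rfl⟩) u3 hc)
  refine ⟨u, hu, ud, fun w w0 w1 m hm => ?_⟩
  have e : ∀ k, π (w k) = π u ^ k := fun k => by
    induction k with
    | zero => rw [w0, map_one, pow_zero]
    | succ k ih => rw [w1, map_mul, ← hα, ih, map_pow, u4, pow_succ']
  have e1 : π (w m) = π u := by rw [e, pow_odd_of_sq u2 hm]
  refine ⟨fun y hy k => disc_tr hD hDD hd hx hn hy hu hd (h.lift hy hu (e1 ▸ k.map π)) ud,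
    fun k => ?_⟩
  have k1 := k.map π
  rw [map_mul, map_mul, e1, ← map_mul, ← map_mul] at k1
  by_cases k2 : Commute x u
  · exact ndx (disc_tr hD hDD hd hx hn hx hu hd k2 ud).symm
  · exact h.nc_conj hx hu k2 (h.lift hx (h.conjD x hx u hu) k1)

end Disc

theorem OT.sub' (h : OT D) : OT {g : closure D | (g : G) ∈ D} :=
  ⟨fun d hd => by rw [← Subgroup.orderOf_coe, h.two d hd], fun d hd e he => h.conjD d hd e he,
    fun a ha b hb => (h.ord a ha b hb).imp (fun k => Subtype.ext k.eq) fun k => by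
      rwa [← Subgroup.orderOf_coe]⟩

section Disc'

variable [Finite G] (h : OT D) {p q : G} (hp : p ∈ D) (hq : q ∈ D) (hpq : p * q ∈ D)
  {d x : G} (hd : d ∈ D) (hx : x ∈ D) (hn : ¬ Cn D d x)
include h hp hq hpq hd hx hn

theorem OT.tr {a b c : G} (ha : a ∈ D) (hb : b ∈ D) (hc : c ∈ D) (h1 : Commute a b)
    (h2 : Commute b c) : Commute a c :=
  h.ri.comm_of_cn hp hq hpq hd hx hn ha hc ((cn_of_comm ha hb h1).trans (cn_of_comm hb hc h2))

theorem OT.LZ {z s s' : G} (hz : z ∈ closure D) (z2 : z * z = 1) (hs : s ∈ D) (hs' : s' ∈ D)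
    (n : ¬ Commute s s') (k : Commute z (s * s')) : Commute z s :=
  congrArg Subtype.val (disc_LZ h.sub' h.ri.riSet_sub (dd_of_mul_mem (RI.of_set h.ri.riSet_sub)
    (a := ⟨p, subset_closure hp⟩) (b := ⟨q, subset_closure hq⟩) hp hq hpq)
    (d := ⟨d, subset_closure hd⟩) (x := ⟨x, subset_closure hx⟩) hd hx (fun k => hn (cn_sub k))
    (z := ⟨z, hz⟩) (s := ⟨s, subset_closure hs⟩) (s' := ⟨s', subset_closure hs'⟩) (Subtype.ext z2)
    hs hs' (fun k => n (congrArg Subtype.val k.eq)) (Subtype.ext k.eq)).eq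

theorem OT.PZ {g : G} (h1 : ∀ y ∈ D, g * y * g⁻¹ ∈ D) (h2 : ∀ y ∈ D, g⁻¹ * y * g ∈ D)
    (hf : Commute g x) (k : Commute d (g * d * g⁻¹)) {m : ℕ} (hm : Odd m) (hg : g ^ m = 1) :
    ∃ u ∈ D, Commute u d ∧ (u * g) ^ m ∈ closure D ∧ (∀ y ∈ D, Commute y ((u * g) ^ m) → Commute y d) ∧
      ¬ Commute x ((u * g) ^ m * x * (u * g) ^ m) := by
  have c1 := conj_mem_closure (g := g) fun s hs => subset_closure (h1 s hs)
  have c2 := conj_mem_closure (g := g⁻¹) fun s hs => subset_closure (by simpa using h2 s hs)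
  let β : closure D ≃* closure D :=
    { toFun := fun y => ⟨g * y * g⁻¹, c1 _ y.2⟩
      invFun := fun y => ⟨g⁻¹ * y * g⁻¹⁻¹, c2 _ y.2⟩
      left_inv := fun y => Subtype.ext (by simp [mul_assoc])
      right_inv := fun y => Subtype.ext (by simp [mul_assoc])
      map_mul' := fun y z => Subtype.ext (by simp [mul_assoc]) }
  obtain ⟨u, hu, k1, k2⟩ := disc_PZ h.sub' h.ri.riSet_sub (dd_of_mul_mem (RI.of_set h.ri.riSet_sub)
    (a := ⟨p, subset_closure hp⟩) (b := ⟨q, subset_closure hq⟩) hp hq hpq)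
    (d := ⟨d, subset_closure hd⟩) (x := ⟨x, subset_closure hx⟩) hd hx (fun k => hn (cn_sub k)) β
    (fun y hy => h1 _ hy) (Subtype.ext (by simp [β, hf.eq])) (Subtype.ext k.eq)
  have m1 := (norm_mem c1).2
  obtain ⟨k3, k4⟩ := k2 (fun k => ⟨((u : G) * g) ^ k * (g ^ k)⁻¹, m1 k _ u.2⟩) (Subtype.ext (by simp))
    (fun k => Subtype.ext (by simp [β, pow_succ', mul_assoc])) m hm
  have e : ((u : G) * g) ^ m * (g ^ m)⁻¹ = ((u : G) * g) ^ m := by rw [hg, inv_one, mul_one]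
  refine ⟨u, hu, congrArg Subtype.val k1.eq, e ▸ m1 m _ u.2, fun y hy k => congrArg Subtype.val
    (k3 ⟨y, subset_closure hy⟩ hy (Subtype.ext ?_)).eq, fun k => k4 (Subtype.ext ?_)⟩
  · simpa only [coe_mul, e] using k.eq
  · simpa only [coe_mul, e] using k.eq

end Disc'

end Cfsg.Agent.OTr
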