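import Mathlib
import Cfsg.Agent.OTr.B

/-! Odd transpositions: the commuting graph has diameter at most two on its components. -/

namespace Cfsg.Agent.OTr

open Subgroup Cfsg.Agent.PTr Cfsg.Agent.Root

variable {G : Type*} [Group G] {D : Set G}

/-- every member lies in a triple -/
def PP (D : Set G) : Prop := ∀ y ∈ D, ∃ y' ∈ D, y * y' ∈ D

/-- components have diameter at most two -/
def Goal (D : Set G) : Prop := ∀ d ∈ D, ∀ x ∈ D, Cn D d x → ∃ y ∈ D, Commute y d ∧ Commute y x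

/-- the class of `x` in the group generated by `T` and `x` -/
def Cl (T : Set G) (x : G) : Set G := {y | ∃ g ∈ closure (insert x T), g * x * g⁻¹ = y}

theorem cl_le {T : Set G} {x y : G} (hy : y ∈ Cl T x) : y ∈ closure (insert x T) := by
  obtain ⟨g, hg, rfl⟩ := hy
  exact mul_mem (mul_mem hg (subset_closure (by simp))) (inv_mem hg)

theorem self_mem_cl {T : Set G} {x : G} : x ∈ Cl T x := ⟨1, one_mem _, by simp⟩

theorem cl_conj {T : Set G} {x y g : G} (hg : g ∈ closure (insert x T)) (hy : y ∈ Cl T x) :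
    g * y * g⁻¹ ∈ Cl T x := by
  obtain ⟨k, hk, rfl⟩ := hy
  exact ⟨g * k, mul_mem hg hk, by group⟩

namespace OT

variable (h : OT D)
include h

section Cl

variable {T : Set G} {x : G} (hT : T ⊆ D) (hx : x ∈ D)
include hT hx

theorem cl_sub : Cl T x ⊆ D := by
  rintro _ ⟨g, hg, rfl⟩
  exact h.ri.conj_mem (closure_mono (Set.insert_subset hx hT) hg) hx

theorem cl_ot : OT (Cl T x) := h.sub (h.cl_sub hT hx) fun d hd e he => by
  simpa only [inv_eq (h.sq (h.cl_sub hT hx he))] using cl_conj (cl_le he) hd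

omit hT in
theorem mem_cl {y : G} (hy : y ∈ D) (hL : y ∈ closure (insert x T)) (hn : ¬ Commute y x) :
    y ∈ Cl T x := by
  obtain ⟨m, hm, k, e, -⟩ := h.swap hx hy fun k => hn k.symm
  refine ⟨m, (closure_le _).2 ?_ k, by rw [inv_eq (h.sq hm), e]⟩
  rintro _ (rfl | rfl)
  · exact subset_closure (by simp)
  · exact hL

variable (hn : ∀ t ∈ T, ¬ Commute t x)
include hn

theorem sub_cl : T ⊆ Cl T x := fun t ht =>
  h.mem_cl hx (hT ht) (subset_closure (Or.inr ht)) (hn t ht)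

theorem le_cl : closure (insert x T) ≤ closure (Cl T x) :=
  closure_mono (Set.insert_subset self_mem_cl (h.sub_cl hT hx hn))

variable {a a' : G} (ha : a ∈ T) (ha' : a' ∈ T) (haa : a * a' ∈ D)
include ha ha' haa

theorem mul_mem_cl : a * a' ∈ Cl T x :=
  h.mem_cl hx haa (mul_mem (subset_closure (Or.inr ha)) (subset_closure (Or.inr ha'))) fun k =>
    hn a ha (h.comm_left (hT ha) (hT ha') hx (h.comm_of_mul (hT ha) (hT ha') haa)
      (h.ne_of_mul (hT ha) haa) k.symm).symm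

theorem cl_pp : PP (Cl T x) := by
  obtain ⟨k, hk, e⟩ := h.sub_cl hT hx hn ha
  rintro _ ⟨g, hg, rfl⟩
  have m := mul_mem hg (inv_mem hk)
  refine ⟨_, cl_conj m (h.sub_cl hT hx hn ha'), ?_⟩
  have := cl_conj m (h.mul_mem_cl hT hx hn ha ha' haa)
  rw [← e] at this
  convert this using 1
  group

omit ha' haa in
theorem cl_disc (he : ∀ v ∈ Cl T x, Commute v a → ∀ t ∈ T, Commute v t) (hG : Goal (Cl T x)) :
    ¬ Cn (Cl T x) a x := fun k => by
  obtain ⟨_, ⟨g, hg, rfl⟩, k1, k2⟩ := hG a (h.sub_cl hT hx hn ha) x self_mem_cl k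
  have : Commute (g * x * g⁻¹) g := comm_cl (S := insert x T) (fun s hs =>
    hs.elim (fun e => e ▸ k2) fun ht => he _ ⟨g, hg, rfl⟩ k1 _ ht) hg
  have e : g * x * g⁻¹ = x := by
    have t := this.eq
    rw [inv_mul_cancel_right] at t
    exact (mul_left_cancel t).symm
  exact hn a ha (e ▸ k1).symm

end Cl

theorem exists_j {u u' e x f : G} (hu : u ∈ D) (hu' : u' ∈ D) (huu : u * u' ∈ D) (he : e ∈ D)
    (hx : x ∈ D) (hf : f ∈ D) (ue : Commute u e) (ux : ¬ Commute x u) (uf : ¬ Commute f u)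
    (fe : Commute f e) : ∃ u₁ w, (u₁ = u ∨ u₁ = u') ∧ Cen D u₁ e x w := by
  rcases h.exists_nc hu hu' huu he hx ue ux with k | k
  · obtain ⟨w, C⟩ := h.exists_cen hu he hx ue (by rintro rfl; exact uf fe) k
    exact ⟨u, w, Or.inl rfl, C⟩
  · obtain ⟨w, C⟩ := h.exists_cen hu' he hx (h.tri hu hu' huu he ue.symm).symm
      (by rintro rfl; exact uf (h.tri' hu hu' huu hf fe)) k
    exact ⟨u', w, Or.inr rfl, C⟩

theorem tri_or {u u' u₁ : G} (hu : u ∈ D) (hu' : u' ∈ D) (huu : u * u' ∈ D)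
    (k : u₁ = u ∨ u₁ = u') : u₁ ∈ D ∧ ∀ v ∈ D, (Commute v u₁ ↔ Commute v u) := by
  rcases k with rfl | rfl
  · exact ⟨hu, fun _ _ => Iff.rfl⟩
  · exact ⟨hu', fun v hv => ⟨h.tri' hu hu' huu hv, h.tri hu hu' huu hv⟩⟩

theorem lside [Finite G] (IH : ∀ E ⊂ D, OT E → PP E → Goal E) {u u' e e' x f s s' z : G}
    (hu : u ∈ D) (hu' : u' ∈ D) (huu : u * u' ∈ D) (he : e ∈ D) (he' : e' ∈ D) (hee : e * e' ∈ D)
    (hx : x ∈ D) (hf : f ∈ D) (ue : Commute u e) (ux : ¬ Commute x u) (uf : ¬ Commute f u)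
    (fe : Commute f e) (ex : ¬ Commute x e) (hs : s ∈ D) (hs' : s' ∈ D)
    (s1 : s ∈ closure ({x, e} : Set G)) (s1' : s' ∈ closure ({x, e'} : Set G))
    (s2 : ¬ Commute s x) (s2' : ¬ Commute s' x) (n : ¬ Commute s s')
    (hz : ∀ B : Subgroup G, u ∈ B → s * s' ∈ B → z ∈ B) (z2 : z * z = 1) (k : Commute z (s * s')) :
    Commute z s := by
  obtain ⟨u₁, w, k1, C⟩ := h.exists_j hu hu' huu he hx hf ue ux uf fe
  obtain ⟨hu₁, eq⟩ := h.tri_or hu hu' huu k1
  have hT : ({u, u', e, e'} : Set G) ⊆ D := by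
    rintro _ (rfl | rfl | rfl | rfl) <;> assumption
  have hn : ∀ t ∈ ({u, u', e, e'} : Set G), ¬ Commute t x := by
    rintro _ (rfl | rfl | rfl | rfl) c
    · exact ux c.symm
    · exact ux (h.tri' hu hu' huu hx c.symm)
    · exact ex c.symm
    · exact ex (h.tri' he he' hee hx c.symm)
  have all : ∀ v ∈ D, Commute v u → Commute v e → ∀ t ∈ ({u, u', e, e'} : Set G), Commute v t := by
    rintro v hv c1 c2 _ (rfl | rfl | rfl | rfl)
    · exact c1
    · exact h.tri hu hu' huu hv c1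
    · exact c2
    · exact h.tri he he' hee hv c2
  have u1e : Commute u₁ e := ((eq e he).2 ue.symm).symm
  have hj : ∀ v ∈ Cl {u, u', e, e'} x, Commute v (u₁ * e * w) := fun v hv =>
    (comm_cl (S := insert x {u, u', e, e'}) (by
      rintro _ (rfl | ht)
      · exact C.jc.symm
      · exact ((all u₁ hu₁ ((eq _ hu₁).1 (Commute.refl _)) u1e _ ht).mul_left
          (all e he ue.symm (Commute.refl _) _ ht)).mul_left
          (all w C.mem ((eq _ C.mem).1 C.wa) C.wb _ ht)) (cl_le hv)).symm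
  have sub := h.cl_sub hT hx
  have ho := h.cl_ot hT hx
  have m1 : e ∈ ({u, u', e, e'} : Set G) := by simp
  have m2 : e' ∈ ({u, u', e, e'} : Set G) := by simp
  have hd := h.cl_disc hT hx hn m1 (fun v hv c => all v (sub hv)
    ((eq _ (sub hv)).1 (h.cen_ba hu₁ he u1e C ex (sub hv) (hj v hv) c)) c)
    (IH _ ⟨sub, fun k => uf ((eq _ hf).1 (h.cen_ba hu₁ he u1e C ex hf (hj f (k hf)) fe))⟩ ho
      (h.cl_pp hT hx hn m1 m2 hee))
  have l1 : s ∈ closure (insert x ({u, u', e, e'} : Set G)) :=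
    closure_mono (by rintro _ (rfl | rfl) <;> simp) s1
  have l2 : s' ∈ closure (insert x ({u, u', e, e'} : Set G)) :=
    closure_mono (by rintro _ (rfl | rfl) <;> simp) s1'
  exact ho.LZ (h.sub_cl hT hx hn m1) (h.sub_cl hT hx hn m2) (h.mul_mem_cl hT hx hn m1 m2 hee)
    (h.sub_cl hT hx hn m1) self_mem_cl hd
    (h.le_cl hT hx hn (hz _ (subset_closure (by simp)) (mul_mem l1 l2))) z2
    (h.mem_cl hx hs l1 s2) (h.mem_cl hx hs' l2 s2') n k

theorem torus {e e' x s s' : G} (he : e ∈ D) (he' : e' ∈ D) (hee : e * e' ∈ D) (hx : x ∈ D)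
    (ex : ¬ Commute x e) (hs : s ∈ D) (hs' : s' ∈ D) (e1 : s * x * s = e) (e2 : s' * x * s' = e') :
    ¬ Commute s e ∧ e * (s * s' * e * (s * s')⁻¹) ∈ D ∧ ¬ Commute s s' := by
  have ss := mul_mul_of_sq (h.sq hs)
  have ss' := mul_mul_of_sq (h.sq hs')
  have k0 : ¬ Commute s e := fun k => ex (by
    have : x = s * e * s := by rw [← e1]; simp only [mul_assoc, ss, h.sq hs, mul_one]
    rw [this, k.eq, mul_assoc, h.sq hs, mul_one])
  have hg : s * s' ∈ closure D := mul_mem (subset_closure hs) (subset_closure hs')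
  have k1 : e * (s * s' * e * (s * s')⁻¹) ∈ D := by
    have := h.ri.conj_mem hg hee
    rw [(h.comm_of_mul he he' hee).eq, ← e2] at this
    nth_rewrite 1 [← e1]
    simpa only [mul_assoc, ss, ss'] using this
  refine ⟨k0, k1, fun k => k0 ?_⟩
  have h3 := h.ri.conj_mem hg he
  have c := h.comm_of_mul he h3 k1
  have g2 := sq_of_comm (h.sq hs) (h.sq hs') k
  have c1 : Commute (e * (s * s' * e * (s * s')⁻¹)) (s * s') := by
    rw [inv_eq g2] at c ⊢
    generalize s * s' = g at c g2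
    have := c.eq
    simp only [Commute, SemiconjBy, mul_assoc, g2, mul_one] at this ⊢
    rw [this, mul_mul_of_sq g2]
  have c2 := h.comm_left hs hs' k1 k (by rintro rfl; exact h.ne_of_mul he hee (e1.symm.trans e2)) c1
  exact h.comm_left he h3 hs c (h.ne_of_mul he k1) c2.symm

end OT

end Cfsg.Agent.OTr
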