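import Mathlib
import Cfsg.Agent.OTr.C

/-! Odd transpositions: shortening a path of length three. -/

namespace Cfsg.Agent.OTr

open Subgroup Cfsg.Agent.PTr Cfsg.Agent.Root

variable {G : Type*} [Group G] {D : Set G}

theorem conj_comm {a b g : G} (k : Commute (g⁻¹ * a * g⁻¹⁻¹) b) : Commute a (g * b * g⁻¹) := by
  simpa [mul_assoc] using k.conj g

namespace OT

variable (h : OT D)
include h

theorem step [Finite G] (hP : PP D) (IH : ∀ E ⊂ D, OT E → PP E → Goal E) {d e f x : G} (hd : d ∈ D)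
    (he : e ∈ D) (hf : f ∈ D) (hx : x ∈ D) (de : Commute d e) (fe : Commute f e) (fx : Commute f x) :
    ∃ y ∈ D, Commute y d ∧ Commute y x := by
  by_cases fd : Commute f d
  · exact ⟨f, hf, fd, fx⟩
  by_cases xe : Commute x e
  · exact ⟨e, he, de.symm, xe.symm⟩
  by_cases xd : Commute x d
  · exact ⟨d, hd, Commute.refl d, xd.symm⟩
  obtain ⟨d', hd', hdd⟩ := hP d hd
  obtain ⟨e', he', hee⟩ := hP e he
  obtain ⟨s, hs, s1, s2, s3⟩ := h.swap hx he xe
  obtain ⟨s', hs', s1', s2', s3'⟩ := h.swap hx he' fun k => xe (h.tri' he he' hee hx k)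
  obtain ⟨se, hge, n⟩ := h.torus he he' hee hx xe hs hs' s2 s2'
  have cs : ∀ v, Commute v x → Commute v e → Commute v e' → Commute v s ∧ Commute v (s * s') :=
    fun v c1 c2 c3 => by
      have := comm_cl (S := {x, e}) (by rintro _ (rfl | rfl) <;> assumption) s1
      exact ⟨this, this.mul_right (comm_cl (S := {x, e'}) (by rintro _ (rfl | rfl) <;> assumption) s1')⟩
  have o := h.odd hs hs' n
  have hgD : s * s' ∈ closure D := mul_mem (subset_closure hs) (subset_closure hs')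
  have refl := h.ri.refl_mem hs hs'
  have lz := fun u u' hu hu' huu ue ux uf z => h.lside IH (u := u) (u' := u') (z := z) hu hu' huu he he'
    hee hx hf ue ux uf fe xe hs hs' s1 s1' s3 s3' n
  generalize s * s' = g at hge cs o hgD refl lz
  obtain ⟨d₁, w, k1, C⟩ := h.exists_j hd hd' hdd he hx hf de xd fd fe
  obtain ⟨hd₁, eq⟩ := h.tri_or hd hd' hdd k1
  have d1e : Commute d₁ e := ((eq e he).2 de.symm).symm
  have hw := C.mem
  have j2 : d₁ * e * w * (d₁ * e * w) = 1 :=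
    sq_of_comm (sq_of_comm (h.sq hd₁) (h.sq he) d1e) (h.sq hw) (C.wa.mul_right C.wb).symm
  have cj : ∀ v, Commute v d₁ → Commute v e → Commute v w → Commute v (d₁ * e * w) :=
    fun v c1 c2 c3 => (c1.mul_right c2).mul_right c3
  have je : Commute e (d₁ * e * w) := cj e d1e.symm (Commute.refl e) C.wb.symm
  obtain ⟨js, jg⟩ := cs _ C.jc.symm je.symm (cj e' (h.tri he he' hee hd₁ d1e).symm
    (h.comm_of_mul he he' hee).symm (h.tri he he' hee hw C.wb).symm).symm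
  have fg := (cs f fx fe (h.tri he he' hee hf fe)).2
  -- the set `Z`
  let Z : Set G := {v | v ∈ D ∧ Commute v (d₁ * e * w) ∧ Commute v e}
  have Zd : ∀ v ∈ Z, Commute v d₁ := fun v hv => h.cen_ba hd₁ he d1e C xe hv.1 hv.2.1 hv.2.2
  have Zw : ∀ v ∈ Z, Commute v w := fun v hv => h.cen_w hd₁ he hv.2.1 (Zd v hv) hv.2.2
  have zD : ∀ γ ∈ zpowers g, ∀ v ∈ D, γ * v * γ⁻¹ ∈ D := fun γ hγ v hv =>
    h.ri.conj_mem (zpowers_le_of_mem hgD hγ) hv
  have zc : ∀ γ ∈ zpowers g, ∀ v, Commute v g → γ * v * γ⁻¹ = v := fun γ hγ v c => by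
    obtain ⟨k, rfl⟩ := mem_zpowers_iff.1 hγ
    rw [← (c.zpow_right k).eq, mul_inv_cancel_right]
  have gZ : g ∈ normalizer Z := mem_normalizer_fintype fun v hv => by
    have m := zD g (mem_zpowers g) v hv.1
    refine ⟨m, ?_, h.tri' he (zD g (mem_zpowers g) e he) hge m (hv.2.2.conj g)⟩
    have := hv.2.1.conj g
    rwa [zc g (mem_zpowers g) _ jg] at this
  have zZ : ∀ γ ∈ zpowers g, ∀ v ∈ Z, γ * v * γ⁻¹ ∈ Z := fun γ hγ v hv =>
    (mem_set_normalizer_iff.1 (zpowers_le_of_mem gZ hγ) v).1 hv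
  have dZ : d ∈ Z := ⟨hd, cj d ((eq _ hd).2 (Commute.refl d)) de ((eq _ hw).1 C.wa).symm, de⟩
  have dZ' : d' ∈ Z := ⟨hd', cj d' ((eq _ hd').2 (h.comm_of_mul hd hd' hdd).symm)
    (h.tri hd hd' hdd he de.symm).symm (h.tri hd hd' hdd hw ((eq _ hw).1 C.wa)).symm,
    (h.tri hd hd' hdd he de.symm).symm⟩
  have wZ : w ∈ Z := ⟨hw, cj w C.wa C.wb (Commute.refl w), C.wb⟩
  let T : Set G := {y | ∃ γ ∈ zpowers g, γ * d * γ⁻¹ = y ∨ γ * d' * γ⁻¹ = y}
  have TZ : T ⊆ Z := by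
    rintro _ ⟨γ, hγ, rfl | rfl⟩
    · exact zZ γ hγ d dZ
    · exact zZ γ hγ d' dZ'
  have ZT : ∀ v ∈ Z, ∀ y ∈ T, Commute v y := by
    rintro v hv _ ⟨γ, hγ, k⟩
    have m := zZ _ (inv_mem hγ) v hv
    have c := (eq _ m.1).1 (Zd _ m)
    rcases k with rfl | rfl
    · exact conj_comm c
    · exact conj_comm (h.tri hd hd' hdd m.1 c)
  have hT : T ⊆ D := fun y hy => (TZ hy).1
  have dT : d ∈ T := ⟨1, one_mem _, Or.inl (by simp)⟩
  have dT' : d' ∈ T := ⟨1, one_mem _, Or.inr (by simp)⟩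
  have Tf : ∀ y ∈ T, ¬ Commute y f := by
    rintro _ ⟨γ, hγ, k⟩ c
    rw [← zc γ hγ f fg] at c
    rcases k with rfl | rfl
    · exact fd ((Commute.conj_iff γ).1 c).symm
    · exact fd (h.tri' hd hd' hdd hf ((Commute.conj_iff γ).1 c).symm)
  have sub := h.cl_sub hT hf
  have Pe : ∀ v ∈ closure (insert f T), Commute e v := fun v hv => comm_cl (S := insert f T)
    (fun y hy => hy.elim (fun k => k ▸ fe.symm) fun k => (TZ k).2.2.symm) hv
  have key : ∀ v ∈ Cl T f, Commute v d → ∀ γ ∈ zpowers g, Commute v (γ * d * γ⁻¹) := by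
    intro v hv vd γ hγ
    by_cases γ1 : γ = 1
    · simpa [γ1] using vd
    have yT : γ * d * γ⁻¹ ∈ T := ⟨γ, hγ, Or.inl rfl⟩
    have hy := hT yT
    obtain ⟨d₂, k2, k3⟩ : ∃ d₂, (d₂ = d ∨ d₂ = d') ∧
        ¬ Commute f (d₂ * (γ * d * γ⁻¹) * f * (d₂ * (γ * d * γ⁻¹))) :=
      (h.exists_nc hd hd' hdd hy hf (ZT d dZ _ yT) fd).elim (fun k => ⟨d, Or.inl rfl, k⟩)
        fun k => ⟨d', Or.inr rfl, k⟩
    obtain ⟨hd₂, eq₂⟩ := h.tri_or hd hd' hdd k2
    have d2T : d₂ ∈ T := by rcases k2 with rfl | rfl <;> assumption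
    by_cases k4 : d₂ = γ * d * γ⁻¹
    · rw [← k4]; exact (eq₂ _ (sub hv)).2 vd
    obtain ⟨w', C'⟩ := h.exists_cen hd₂ hy hf (ZT _ (TZ d2T) _ yT) k4 k3
    have hw' := C'.mem
    have c0 : ∀ v, Commute v f → Commute v d₂ → Commute v (γ * d * γ⁻¹) → Commute w' v :=
      fun v c1 c2 c3 => (comm_cl (S := {f, d₂ * (γ * d * γ⁻¹)})
        (fun y hy => hy.elim (fun k => k ▸ c1) fun k => k ▸ c2.mul_right c3) C'.cl).symm
    have c1 : Commute w' e := c0 e fe.symm (TZ d2T).2.2.symm (TZ yT).2.2.symm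
    have c2 : Commute w' (γ * e * γ⁻¹) := c0 _ (by rw [← zc γ hγ f fg]; exact fe.symm.conj γ)
      (conj_comm (zZ _ (inv_mem hγ) _ (TZ d2T)).2.2).symm (de.symm.conj γ)
    have c3 : Commute w' d₁ := (eq _ hw').2 ((eq₂ _ hw').1 C'.wa)
    have c4 : Commute w' (γ * d₁ * γ⁻¹) := conj_comm ((eq _ (zD _ (inv_mem hγ) _ hw')).2
      (by simpa [mul_assoc] using C'.wb.conj γ⁻¹))
    have c5 : Commute w' (w * (γ * w * γ⁻¹)) := by
      have t1 := zc γ hγ _ jg
      have t2 : γ * w * γ⁻¹ = γ * e * γ⁻¹ * (γ * d₁ * γ⁻¹) * (d₁ * e * w) := by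
        rw [← t1]; simp [mul_assoc, mul_mul_of_sq (h.sq hd₁), mul_mul_of_sq (h.sq he)]
      have t3 := (Zw _ (zZ γ hγ w wZ)).eq
      rw [← t3, t2, mul_assoc, mul_assoc (d₁ * e), h.sq hw, mul_one]
      exact (c2.mul_right c4).mul_right (c3.mul_right c1)
    have c6 : Commute w' w := by
      refine h.comm_left hw (zD γ hγ w hw) hw' (Zw _ (zZ γ hγ w wZ)).symm (fun k5 => ?_) c5
      obtain ⟨k, rfl⟩ := (mem_powers_iff_mem_zpowers.2 hγ : γ ∈ Submonoid.powers g)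
      simp only at k5 γ1
      have t1 : Commute w (s * (s * g ^ k)) := by
        rw [mul_mul_of_sq (h.sq hs)]; exact (mul_inv_eq_iff_eq_mul.1 k5.symm).symm
      by_cases k6 : Commute s (s * g ^ k)
      · have t2 := sq_of_comm (h.sq hs) (h.sq (refl k)) k6
        rw [mul_mul_of_sq (h.sq hs)] at t2
        exact γ1 (eq_one_of_odd_of_sq (o.of_dvd_nat (orderOf_pow_dvd k)) t2)
      · have t2 := h.comm_of_comm_mul hw hs (refl k) k6 t1
        have t3 := js.symm.mul_right t2.symm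
        rw [mul_assoc, h.sq hw, mul_one, d1e.eq] at t3
        exact se (h.comm_left he hd₁ hs d1e.symm (by rintro rfl; exact fd ((eq _ hf).1 fe)) t3)
    have w'Z : w' ∈ Z := ⟨hw', cj _ c3 c1 c6, c1⟩
    have c7 : Commute v (d₂ * (γ * d * γ⁻¹) * w') := (comm_cl (S := insert f T)
      (fun y hy => hy.elim (fun k => k ▸ C'.jc.symm) fun k =>
        ((ZT _ (TZ d2T) _ k).mul_left (ZT _ (TZ yT) _ k)).mul_left (ZT _ w'Z _ k)) (cl_le hv)).symm
    exact h.cen_ab hd₂ hy C' (fun k => Tf _ d2T k.symm) (sub hv) c7 ((eq₂ _ (sub hv)).2 vd)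
  have ho := h.cl_ot hT hf
  have hn := h.cl_disc hT hf Tf dT (by
    rintro v hv vd _ ⟨γ, hγ, rfl | rfl⟩
    · exact key v hv vd γ hγ
    · exact h.tri (zD γ hγ d hd) (zD γ hγ d' hd') (by simpa [mul_assoc] using zD γ hγ _ hdd) (sub hv)
        (key v hv vd γ hγ))
    (IH _ ⟨sub, fun k => xe (Pe x (cl_le (k hx))).symm⟩ ho (h.cl_pp hT hf Tf dT dT' hdd))
  have zE : ∀ γ ∈ zpowers g, ∀ y ∈ Cl T f, γ * y * γ⁻¹ ∈ Cl T f := by
    rintro γ hγ _ ⟨k, hk, rfl⟩
    refine ⟨γ * k * γ⁻¹, conj_mem_closure (fun y hy => subset_closure ?_) k hk, ?_⟩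
    · rcases hy with rfl | ⟨δ, hδ, rfl | rfl⟩
      · exact Or.inl (zc γ hγ _ fg)
      · exact Or.inr ⟨γ * δ, mul_mem hγ hδ, Or.inl (by group)⟩
      · exact Or.inr ⟨γ * δ, mul_mem hγ hδ, Or.inr (by group)⟩
    · nth_rewrite 1 [← zc γ hγ f fg]; group
  have m1 := h.sub_cl hT hf Tf dT
  have m2 := h.sub_cl hT hf Tf dT'
  have m3 := h.mul_mem_cl hT hf Tf dT dT' hdd
  have tr := fun a b c => ho.tr m1 m2 m3 m1 self_mem_cl hn (a := a) (b := b) (c := c)
  have dg : Commute d (g * d * g⁻¹) := ZT d dZ _ ⟨g, mem_zpowers g, Or.inl rfl⟩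
  obtain ⟨u, hu, ud, z1, z2, z3⟩ := ho.PZ m1 m2 m3 m1 self_mem_cl hn (zE g (mem_zpowers g))
    (by simpa using zE _ (inv_mem (mem_zpowers g))) fg.symm dg o (pow_orderOf_eq_one g)
  by_cases xu : Commute x u
  · exact ⟨u, sub hu, ud, xu.symm⟩
  have zA := (norm_mem (N := closure {y | y ∈ Cl T f ∧ Commute y d}) (r := g)
    (conj_mem_closure fun y hy => subset_closure ⟨zE g (mem_zpowers g) y hy.1,
      tr _ _ _ (zE g (mem_zpowers g) y hy.1) (zE g (mem_zpowers g) d m1) m1 (hy.2.conj g)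
        dg.symm⟩)).2 (orderOf g) u (subset_closure ⟨hu, ud⟩)
  rw [pow_orderOf_eq_one, inv_one, mul_one] at zA
  have cA : ∀ a ∈ {y | y ∈ Cl T f ∧ Commute y d}, ∀ b ∈ {y | y ∈ Cl T f ∧ Commute y d},
      a * b = b * a := fun a ha b hb => tr _ _ _ ha.1 m1 hb.1 ha.2 hb.2.symm
  have z4 := sq_closure cA (fun a ha => ho.sq ha.1) _ zA
  have z5 : Commute ((u * g) ^ orderOf g) g := by
    have t : Commute _ u := comm_closure cA _ zA u (subset_closure ⟨hu, ud⟩)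
    have := t.mul_right ((Commute.refl (u * g)).pow_left (orderOf g))
    rwa [mul_mul_of_sq (ho.sq hu)] at this
  obtain ⟨u', hu', huu⟩ := hP u (sub hu)
  have z6 := lz u u' (sub hu) hu' huu (Pe u (cl_le hu)).symm xu
    (fun k => fd (tr _ _ _ self_mem_cl hu m1 k ud)) _ (fun B b1 b2 => pow_mem (mul_mem b1 b2) _) z4 z5
  have z7 := Pe _ ((closure_le _).2 (fun _ k => cl_le k) z1)
  generalize (u * g) ^ orderOf g = z at z1 z2 z3 z4 z6 z7
  have z8 : Commute z x := by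
    have := (z6.mul_right z7.symm).mul_right z6
    rw [← s2] at this
    simpa only [mul_assoc, mul_mul_of_sq (h.sq hs), h.sq hs, mul_one] using this
  obtain ⟨y, hy, y1, -, y2, -⟩ := ho.mid self_mem_cl z1 z4 z3
  exact ⟨y, sub hy, z2 y hy y2, (comm_cl (S := {f, z})
    (fun v hv => hv.elim (fun k => k ▸ fx.symm) fun k => k ▸ z8.symm) y1).symm⟩

end OT

theorem goal [Finite G] : ∀ (n : ℕ) (D : Set G), D.ncard = n → OT D → PP D → Goal D := by
  intro n
  induction n using Nat.strong_induction_on with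
  | _ n ih =>
  intro D hn h hP d hd x hx k
  induction k with
  | refl => exact ⟨d, hd, Commute.refl d, Commute.refl d⟩
  | tail _ k ih' =>
    obtain ⟨e, he, c1, c2⟩ := ih' k.1
    exact h.step hP (fun E hE => ih _ (hn ▸ Set.ncard_lt_ncard hE) E rfl) hd he k.1 hx c1.symm
      c2.symm k.2.2.2

theorem OT.of_set (hD : IsOddTranspositionSet D) : OT D :=
  ⟨hD.1.orderOf_eq, (RI.of_set hD.1).conjD, fun a ha b hb => by
    rcases hD.1.pair a ha b hb with k | k | k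
    · exact Or.inl k
    · exact Or.inr k
    · exact absurd k.1 (hD.2 a ha b hb)⟩

theorem pp_of_class (hcl : IsRootInvolutionClass D) (hDD : (D ∩ commutingProducts D).Nonempty) :
    PP D := by
  obtain ⟨_, hab, a, ha, b, hb, -, -, rfl⟩ := hDD
  intro y hy
  obtain ⟨g, rfl⟩ := hcl.2.2 a ha y hy
  exact ⟨_, hcl.1.conj_mem b hb g, by simpa [mul_assoc] using hcl.1.conj_mem _ hab g⟩

end Cfsg.Agent.OTr
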