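import Mathlib
import Cfsg.Agent.OTr.D
import Cfsg.Agent.PTr.B
import Cfsg.Agent.S0331
import Cfsg.Agent.S0262
import Cfsg.Agent.S0206
import Cfsg.Agent.RankOne.SzLie

/-! Odd transpositions: the rank one subgroups. -/

namespace Cfsg.Agent.OTr

open Subgroup Cfsg.Agent.PTr Cfsg.Agent.Root Cfsg.Agent.RankOne

/-- all Sylow subgroups of odd order are cyclic -/
def CS (G : Type*) [Group G] : Prop :=
  ∀ (p : ℕ) [Fact p.Prime], p ≠ 2 → ∀ P : Sylow p G, IsCyclic P

theorem CS.of_equiv {G H : Type*} [Group G] [Group H] [Finite G] [Finite H] (e : G ≃* H)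
    (h : CS H) : CS G := fun p _ hp P => by
  haveI := h p hp (P.mapSurjective (f := e.toMonoidHom) e.surjective)
  exact isCyclic_of_injective (G' := (P.mapSurjective (f := e.toMonoidHom) e.surjective))
    (e.toMonoidHom.subgroupMap P) fun a b k => Subtype.ext (e.injective (congrArg Subtype.val k))

theorem cs_psl (F : Type) [Field F] [Fintype F] [CharP F 2] :
    CS (Matrix.ProjectiveSpecialLinearGroup (Fin 2) F) :=
  CS.of_equiv ((QuotientGroup.quotientMulEquivOfEq Suz.center_SL2).trans QuotientGroup.quotientBot)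
    fun p _ hp P => S0262.result 2 p hp hp P

theorem cs_sz {G : Type*} [Group G] [Finite G] (h : Cfsg.Lie.IsoSuzuki G) : CS G := by
  obtain ⟨F, _, _, m, hm, hF, ⟨e⟩⟩ := h
  exact CS.of_equiv (e.trans (Sz.lieEquiv hF hm)) fun p _ hp P => S0331.result hm hF hp P

theorem normal_of_le_cen {G : Type*} [Group G] {N : Subgroup G} (h : N ≤ center G) : N.Normal :=
  ⟨fun n hn g => by rwa [mem_center_iff.1 (h hn) g, mul_inv_cancel_right]⟩

variable {G : Type*} [Group G] [Finite G] {D : Set G}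

theorem eq_bot_of_cs {N : Subgroup G} [N.Normal] (hN : N ≤ center G) (hO : pCore 2 G = ⊥)
    (h2 : ∀ d ∈ D, d * d = 1) (hD : closure D = ⊤) (h : CS (G ⧸ N)) : N = ⊥ := by
  by_contra hne
  obtain ⟨p, hp, hd⟩ := Nat.exists_prime_and_dvd ((one_lt_card_iff_ne_bot N).2 hne).ne'
  haveI := Fact.mk hp
  obtain ⟨z, hz⟩ := exists_prime_orderOf_dvd_card' p hd
  have zc : (z : G) ∈ center G := hN z.2
  have zo : orderOf (z : G) = p := by rw [Subgroup.orderOf_coe, hz]
  have zn : (zpowers (z : G)).Normal := normal_of_le_cen (zpowers_le_of_mem zc)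
  have zp : IsPGroup p (zpowers (z : G)) := IsPGroup.of_card (n := 1) (by
    rw [Nat.card_zpowers, zo, pow_one])
  have z1 : (z : G) ≠ 1 := fun e => hp.one_lt.ne' (by rw [← zo, e, orderOf_one])
  have p2 : p ≠ 2 := by
    rintro rfl
    exact z1 (mem_bot.1 (hO ▸ Core.le_pCore zn zp (mem_zpowers _)))
  obtain ⟨P, hP⟩ := zp.exists_le_sylow
  haveI := h p p2 (P.mapSurjective (QuotientGroup.mk'_surjective N))
  haveI : IsMulCommutative (P : Subgroup G) := MonoidHom.isMulCommutative_of_isCyclic_of_ker_le_center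
    (G' := P.mapSurjective (QuotientGroup.mk'_surjective N)) ((QuotientGroup.mk' N).subgroupMap P)
    fun a ha => mem_center_iff.2 fun b => Subtype.ext
      (mem_center_iff.1 (hN ((QuotientGroup.eq_one_iff _).1 (congrArg Subtype.val ha))) b)
  open scoped IsMulCommutative in
  have t1 : ∀ g : G, MonoidHom.transfer (MonoidHom.id (P : Subgroup G)) g = 1 := fun g => by
    have hg : g ∈ closure D := hD ▸ mem_top g
    refine (closure_le (MonoidHom.ker _)).2 (fun d hd => ?_) hg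
    obtain ⟨k, hk⟩ := P.isPGroup' (MonoidHom.transfer (MonoidHom.id (P : Subgroup G)) d)
    exact eq_one_of_cop (m := 2) (n := p ^ k)
      (Nat.Coprime.pow_right _ ((Nat.coprime_primes Nat.prime_two hp).2 p2.symm))
      (by rw [pow_two, ← map_mul, h2 d hd, map_one]) hk
  open scoped IsMulCommutative in
  have t2 := MonoidHom.transfer_eq_pow (MonoidHom.id (P : Subgroup G)) (z : G) fun k g _ => by
    rw [mul_assoc, ← mem_center_iff.1 (pow_mem zc k) g, inv_mul_cancel_left]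
  rw [t1] at t2
  have t3 := orderOf_dvd_of_pow_eq_one (congrArg Subtype.val t2).symm
  exact P.not_dvd_index (zo ▸ t3)

theorem twoZCore_le (hO : pCore 2 G = ⊥) : twoZCore G ≤ center G := fun g hg =>
  mem_center_iff.2 fun k => by
    have := mem_center_iff.1 (mem_comap.1 hg) (QuotientGroup.mk' _ k)
    rw [← map_mul, ← map_mul, QuotientGroup.mk'_apply, QuotientGroup.mk'_apply, QuotientGroup.eq,
      hO, mem_bot, inv_mul_eq_one] at this
    exact this

theorem not_mem_center (hO : pCore 2 G = ⊥) {y : G} (h2 : orderOf y = 2) : y ∉ center G := fun hy => by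
  haveI := Fact.mk Nat.prime_two
  have := Core.le_pCore (normal_of_le_cen (zpowers_le_of_mem hy))
    (IsPGroup.of_card (p := 2) (n := 1) (by rw [Nat.card_zpowers, h2, pow_one])) (mem_zpowers y)
  rw [hO, mem_bot] at this
  simp [this] at h2

/-- Suzuki's theorem for a group generated by involutions of `Q` and `t`. -/
theorem gen_case {Ω : Type*} [MulAction G Ω] [FaithfulSMul G Ω] [IsSimpleGroup G] {a : Ω} {t : G}
    {Q : Subgroup G} (hS : Cfsg.IsRankOneSetup G Ω a t Q) (h2 : Suz.TwoRank G) {T : Set G}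
    (hT : ∀ y ∈ T, y ∈ Q ∧ y * y = 1) (hg : closure (insert t T) = ⊤) :
    ∃ (F : Type) (_ : Field F) (_ : Fintype F) (_ : CharP F 2), 4 ≤ Fintype.card F ∧
      Fintype.card F = Suz.qOf Q ∧ (((∀ x ∈ Q, x * x = 1) ∧
        Nonempty (G ≃* Matrix.ProjectiveSpecialLinearGroup (Fin 2) F)) ∨
        ((∃ x ∈ Q, x * x ≠ 1) ∧ Cfsg.Lie.IsoSuzuki G)) := by
  obtain ⟨F, _, _, _, ⟨Z⟩⟩ := Suz.exists_ZF hS h2
  have hW := Suz.weak hS h2
  have hL : Suz.ZF.LL t Q = ⊤ := top_le_iff.1 (hg ▸ (closure_le _).2 (by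
    rintro _ (rfl | hy)
    · exact Suz.ZF.t_mem_LL _ Q
    · exact Suz.ZF.Q_le_LL t Q (hT _ hy).1))
  refine ⟨F, _, _, inferInstance, Z.four_le, Z.qOf_eq.symm, ?_⟩
  rcases hW.cases with h | ⟨hn, h | ⟨h, ω, hω, hω', ζ, hζ, hζt, hζ', g, hg', d, hd, e⟩⟩
  · obtain ⟨e⟩ := Z.equiv_PSL2 h
    rw [hL] at e
    exact Or.inl ⟨h, ⟨topEquiv.symm.trans e⟩⟩
  · obtain ⟨F', _, _, m, hm, hF, ⟨e⟩⟩ := Z.isoSuzuki hW.two hn (Z.qOf_eq ▸ h)
    rw [hL] at e
    refine Or.inr ⟨?_, F', inferInstance, inferInstance, m, hm, hF, ⟨topEquiv.symm.trans e⟩⟩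
    by_contra! H
    obtain ⟨x, hx, y, hy, n⟩ := hn
    exact n (comm_of_sq (H x hx) (H y hy) (H _ (mul_mem hx hy)))
  · exfalso
    have hsp := Z.special hW.two hn
    have hω1 : ω ∈ Z.N := ⟨hω, fun e => hω' (Z.mem_Zs'.mp e).2⟩
    have hζ1 : ζ ∈ Suz.WW a t := Z.mem_WW.mpr ⟨hζ, fun b => hζ' _ (Z.z_mem b) (Z.z_mul_self b)⟩
    refine Z.beta_ne hsp hω1 hζ1 ⟨hω, hg', hd, Suz.D_inv_conj_Q hS hζ (inv_mem hω), e⟩ ?_
    refine Suz.eq_one_of_cent_Q hS hζ fun x _ => (comm_cl (S := insert t T) ?_ (hg ▸ mem_top x)).eq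
    rintro _ (rfl | hy)
    · exact hζt
    · exact hζ' _ (hT _ hy).1 (hT _ hy).2

/-- the members of `D` with the same commuting members as `d` -/
def EC (D : Set G) (d : G) : Set G := {y | y ∈ D ∧ ∀ v ∈ D, (Commute v y ↔ Commute v d)}

theorem EC.comm {d a b : G} (ha : a ∈ EC D d) (hb : b ∈ EC D d) : Commute a b :=
  (hb.2 a ha.1).2 ((ha.2 a ha.1).1 (Commute.refl a))

theorem OT.ec_iff (h : OT D) {d a b v : G} (ha : a ∈ EC D d) (hb : b ∈ EC D d) (n : a ≠ b)
    (hv : v ∈ D) : Commute v (a * b) ↔ Commute v d :=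
  ⟨fun k => (ha.2 v hv).1 (h.comm_left ha.1 hb.1 hv (EC.comm ha hb) n k),
    fun k => ((ha.2 v hv).2 k).mul_right ((hb.2 v hv).2 k)⟩

theorem OT.matched (h : OT D) (hc : ∀ d ∈ D, ∀ g : G, g * d * g⁻¹ ∈ D) (hO : pCore 2 G = ⊥)
    {d x : G} (hx : x ∈ D) (hg : closure (insert x (EC D d)) = ⊤)
    (hm : ∀ a ∈ EC D d, ∀ b ∈ EC D d, Commute x (a * b * x * (a * b))) {a b : G}
    (ha : a ∈ EC D d) (hb : b ∈ EC D d) : a = b := by
  haveI := Fact.mk Nat.prime_two
  let S : Set G := {t | ∃ a ∈ EC D d, ∃ b ∈ EC D d, a * b = t}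
  let S' : Set G := {u | ∃ t ∈ S, x * t * x = u}
  have x2 := h.sq hx
  have S2 : ∀ t ∈ S, t * t = 1 := by
    rintro _ ⟨a, ha, b, hb, rfl⟩; exact sq_of_comm (h.sq ha.1) (h.sq hb.1) (EC.comm ha hb)
  have Sc : ∀ y ∈ EC D d, ∀ t ∈ S, Commute y t := by
    rintro y hy _ ⟨a, ha, b, hb, rfl⟩; exact (EC.comm hy ha).mul_right (EC.comm hy hb)
  have SS : ∀ s ∈ S, ∀ t ∈ S, Commute s t := by
    rintro _ ⟨a, ha, b, hb, rfl⟩ t ht; exact (Sc a ha t ht).mul_left (Sc b hb t ht)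
  have S2' : ∀ u ∈ S', u * u = 1 := by
    rintro _ ⟨t, ht, rfl⟩; simp only [mul_assoc, mul_mul_of_sq x2, mul_mul_of_sq (S2 t ht), x2]
  have SS' : ∀ s ∈ S', ∀ t ∈ S', s * t = t * s := by
    rintro _ ⟨s, hs, rfl⟩ _ ⟨t, ht, rfl⟩
    simpa only [inv_eq x2] using ((SS s hs t ht).conj x).eq
  have nE : ∀ u ∈ S', ∀ y ∈ EC D d, u * y * u⁻¹ ∈ EC D d := by
    rintro u hu y hy
    obtain ⟨_, ⟨a, ha, b, hb, rfl⟩, e⟩ := id hu
    by_cases n : a = b
    · rw [n, h.sq hb.1, mul_one, x2] at e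
      simpa [← e] using hy
    have c : Commute (a * b) u := e ▸ comm_swap (hm a ha b hb)
    refine ⟨hc y hy.1 u, fun v hv => ?_⟩
    have m := hc v hv u⁻¹
    rw [← h.ec_iff ha hb n hv, ← Commute.conj_iff u⁻¹, ← Commute.conj_iff (a := v) u⁻¹,
      show u⁻¹ * (u * y * u⁻¹) * u⁻¹⁻¹ = y by group, hy.2 _ m, ← h.ec_iff ha hb n m,
      ← c.inv_right.eq, mul_inv_cancel_right]
  have p1 : IsPGroup 2 (closure S ⊔ closure S' : Subgroup G) :=
    IsPGroup.to_sup_of_normal_left' (isPGroup_of_sq (sq_closure SS S2))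
      (isPGroup_of_sq (sq_closure SS' S2')) ((closure_le _).2 fun u hu =>
        mem_normalizer_fintype (conj_mem_closure (by
          rintro _ ⟨a, ha, b, hb, rfl⟩
          exact subset_closure ⟨_, nE u hu a ha, _, nE u hu b hb, by group⟩)))
  rw [← Subgroup.closure_union] at p1
  have p2 : (closure (S ∪ S')).Normal := normalizer_eq_top_iff.1 (top_le_iff.1 (hg ▸
    (closure_le _).2 fun y hy => mem_normalizer_fintype (conj_mem_closure fun s hs => by
      rcases hy with rfl | hy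
      · rw [inv_eq x2]
        rcases hs with hs | ⟨t, ht, rfl⟩
        · exact subset_closure (Or.inr ⟨s, hs, rfl⟩)
        · simp only [mul_assoc, mul_mul_of_sq x2, x2, mul_one]
          exact subset_closure (Or.inl ht)
      · rcases hs with hs | hs
        · rw [(Sc y hy s hs).eq, mul_inv_cancel_right]; exact subset_closure (Or.inl hs)
        · have : y * s * y⁻¹ = y * (s * y * s⁻¹) * s := by rw [inv_eq (h.sq hy.1)]; group
          rw [this]
          exact mul_mem (subset_closure (Or.inl ⟨y, hy, _, nE s hs y hy, rfl⟩))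
            (subset_closure (Or.inr hs)))))
  have := Core.le_pCore p2 p1 (subset_closure (Or.inl ⟨a, ha, b, hb, rfl⟩))
  rw [hO, mem_bot] at this
  rw [← inv_eq (h.sq hb.1)]; exact eq_inv_of_mul_eq_one_left this

theorem OT.top (h : OT D) (hO : pCore 2 G = ⊥) {d x : G} (hd : d ∈ D) (hD : D = conjugatesOf x)
    (n : ¬ Commute d x) (hg : closure (insert x (EC D d)) = ⊤) :
    (∃ (F : Type) (_ : Field F) (_ : Fintype F), CharP F 2 ∧ 4 ≤ Fintype.card F ∧
      Nonempty (G ≃* Matrix.ProjectiveSpecialLinearGroup (Fin 2) F)) ∨ Cfsg.Lie.IsoSuzuki G ∨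
      ∃ n : ℕ, Nonempty (G ≃* DihedralGroup n) := by
  have hx : x ∈ D := hD ▸ mem_conjugatesOf_self
  have hc : ∀ d ∈ D, ∀ g : G, g * d * g⁻¹ ∈ D := fun d hd g => by
    rw [hD] at hd ⊢; exact IsConj.trans hd (isConj_iff.2 ⟨g, rfl⟩)
  have dE : d ∈ EC D d := ⟨hd, fun _ _ => Iff.rfl⟩
  have cen : ∀ y, Commute y x → (∀ a ∈ EC D d, Commute y a) → y ∈ center G := fun y c1 c2 =>
    mem_center_iff.2 fun g => (comm_cl (S := insert x (EC D d))
      (fun s hs => hs.elim (fun k => k ▸ c1) (c2 s)) (hg ▸ mem_top g)).symm.eq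
  by_cases hm : ∀ a ∈ EC D d, ∀ b ∈ EC D d, Commute x (a * b * x * (a * b))
  · obtain ⟨e⟩ := S0206.result x d (h.two x hx) (h.two d hd) fun e => n (e ▸ Commute.refl _)
    have : closure ({x, d} : Set G) = ⊤ := top_le_iff.1 (hg ▸ closure_mono
      (Set.insert_subset_insert fun a ha => h.matched hc hO hx hg hm ha dE))
    rw [this] at e
    exact Or.inr (Or.inr ⟨_, ⟨topEquiv.symm.trans e⟩⟩)
  push Not at hm
  obtain ⟨a, ha, b, hb, k⟩ := hm
  have ab : a ≠ b := by rintro rfl; exact k (by rw [h.sq ha.1, one_mul, mul_one])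
  obtain ⟨w, C⟩ := h.exists_cen ha.1 hb.1 hx (EC.comm ha hb) ab k
  have j2 : a * b * w * (a * b * w) = 1 := sq_of_comm (sq_of_comm (h.sq ha.1) (h.sq hb.1)
    (EC.comm ha hb)) (h.sq C.mem) (C.wa.mul_right C.wb).symm
  have j1 : a * b * w = 1 := by
    by_contra j1
    exact not_mem_center hO (orderOf_eq_prime (by rw [pow_two, j2]) j1) (cen _ C.jc.symm fun y hy =>
      ((EC.comm ha hy).mul_left (EC.comm hb hy)).mul_left
        ((hy.2 _ C.mem).2 ((ha.2 _ C.mem).1 C.wa)))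
  have hab : a * b ∈ D := by
    rw [eq_inv_of_mul_eq_one_left j1, inv_eq (h.sq C.mem)]; exact C.mem
  have hR : IsRootInvolutionSet D := ⟨h.two, top_le_iff.1 (hg ▸ closure_mono
    (Set.insert_subset hx fun _ k => k.1)), hc, h.ri.pair⟩
  have hDD := dd_of_mul_mem h.ri ha.1 hb.1 hab
  have hn : ¬ Cn D d x := fun k => by
    obtain ⟨y, hy, c1, c2⟩ := goal _ D rfl h (pp_of_class ⟨hR, ⟨x, hx⟩, fun a ha b hb => by
      rw [hD] at ha hb
      obtain ⟨g, e⟩ := isConj_iff.1 (IsConj.trans (IsConj.symm ha) hb)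
      exact ⟨g, e.symm⟩⟩ hDD) d hd x hx k
    exact not_mem_center hO (h.two y hy) (cen y c2 fun a ha => (ha.2 y hy).2 c1)
  haveI := disc_simple hR hDD hd hx hn
  obtain ⟨H, hH⟩ := disc_se hR hDD hd hx hn
  obtain ⟨t, Q, hS⟩ := Ben.simple_setup hH
  haveI := Ben.faithful_of_simple hH.1
  have h2 := disc_twoRank hR hDD hd hx hn
  have n1 := fun a (ha : a ∈ D) => disc_ne_one hR hd hx hn ha
  have h' := h.map (QuotientGroup.mk' (twoZCore G)) n1
  set π := QuotientGroup.mk' (twoZCore G) with hπ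
  obtain ⟨c, hc⟩ := Setup.exists_fix hS (h'.sq ⟨d, hd, rfl⟩)
  obtain ⟨g, rfl⟩ := Setup.exists_smul_eq hS ((1 : G ⧸ twoZCore G) : _ ⧸ H) c
  have hS' := Setup.change_t (Setup.conj hS g) (h'.sq ⟨x, hx, rfl⟩) fun e =>
    n (h.lift hd hx (comm_of_fix hS h2 (h'.sq ⟨d, hd, rfl⟩) (h'.sq ⟨x, hx, rfl⟩) hc e))
  obtain ⟨F, _, _, _, f4, -, r⟩ := gen_case hS' h2 (T := π '' EC D d) (by
    rintro _ ⟨y, hy, rfl⟩
    exact ⟨Setup.mem_Q_of_mul_self hS' (fix_of_comm hS (n1 d hd) (h'.sq ⟨d, hd, rfl⟩) hc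
      ((EC.comm dE hy).map π)) (h'.sq ⟨y, hy.1, rfl⟩), h'.sq ⟨y, hy.1, rfl⟩⟩) (by
    rw [← Set.image_insert_eq, ← MonoidHom.map_closure, hg]
    exact map_top_of_surjective _ (QuotientGroup.mk'_surjective _))
  have z : twoZCore G = ⊥ := eq_bot_of_cs (twoZCore_le hO) hO (fun d hd => h.sq hd) hR.generates
    (r.elim (fun k => k.2.elim fun e => CS.of_equiv e (cs_psl F)) fun k => cs_sz k.2)
  have e₀ := ((QuotientGroup.quotientMulEquivOfEq z).trans QuotientGroup.quotientBot).symm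
  rcases r with ⟨-, ⟨e⟩⟩ | ⟨-, F', _, _, m, hm, hF, ⟨e⟩⟩
  · exact Or.inl ⟨F, _, _, inferInstance, f4, ⟨e₀.trans e⟩⟩
  · exact Or.inr (Or.inl ⟨F', _, _, m, hm, hF, ⟨e₀.trans e⟩⟩)

theorem OT.rank_one (h : OT D) {T : Set G} {d x : G} (hd : d ∈ T) (hT : T ⊆ EC D d) (hx : x ∈ D)
    (n : ¬ Commute d x) (X : Subgroup G) (hX : X = closure (insert x T)) :
    (∃ (F : Type) (_ : Field F) (_ : Fintype F), CharP F 2 ∧ 4 ≤ Fintype.card F ∧
      Nonempty (X ⧸ pCore 2 X ≃* Matrix.ProjectiveSpecialLinearGroup (Fin 2) F)) ∨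
      Cfsg.Lie.IsoSuzuki (X ⧸ pCore 2 X) ∨ ∃ n : ℕ, Nonempty (X ⧸ pCore 2 X ≃* DihedralGroup n) := by
  haveI := Fact.mk Nat.prime_two
  subst hX
  have hT' : T ⊆ D := fun y hy => (hT hy).1
  have hn : ∀ t ∈ T, ¬ Commute t x := fun t ht k => n (((hT ht).2 x hx).1 k.symm).symm
  let X := closure (insert x T)
  let E : Set X := {y | (y : G) ∈ Cl T x}
  have ho := h.cl_ot hT' hx
  have hE : OT E := ⟨fun d hd => by rw [← Subgroup.orderOf_coe, ho.two d hd],
    fun d hd e he => ho.conjD d hd e he, fun a ha b hb => (ho.ord a ha b hb).imp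
      (fun k => Subtype.ext k.eq) fun k => by rwa [← Subgroup.orderOf_coe]⟩
  let π := QuotientGroup.mk' (pCore 2 X)
  have lift : ∀ a ∈ E, ∀ b ∈ E, Commute (π a) (π b) → Commute a b := fun a ha b hb k =>
    hE.lift ha hb (k.map (QuotientGroup.map _ (twoZCore X) (MonoidHom.id _) fun g hg =>
      show π g ∈ center _ by
        rw [QuotientGroup.mk'_apply, (QuotientGroup.eq_one_iff _).2 hg]; exact one_mem _))
  let x' : X := ⟨x, subset_closure (Or.inl rfl)⟩
  let d' : X := ⟨d, subset_closure (Or.inr hd)⟩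
  have hx' : x' ∈ E := self_mem_cl
  have hd' : d' ∈ E := h.sub_cl hT' hx hn hd
  have nc : ¬ Commute (π d') (π x') := fun k => n (congrArg Subtype.val (lift _ hd' _ hx' k).eq)
  have cl : π '' E = conjugatesOf (π x') := by
    ext y
    constructor
    · rintro ⟨⟨_, _⟩, ⟨g, hg, rfl⟩, rfl⟩
      exact isConj_iff.2 ⟨π ⟨g, hg⟩, rfl⟩
    · intro k
      obtain ⟨g, rfl⟩ := isConj_iff.1 k
      obtain ⟨g, rfl⟩ := QuotientGroup.mk'_surjective _ g
      exact ⟨g * x' * g⁻¹, ⟨g, g.2, rfl⟩, rfl⟩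
  have h' := hE.map π fun y hy e => nc (by
    obtain ⟨g, k⟩ := isConj_iff.1 (show π y ∈ conjugatesOf (π x') from cl ▸ ⟨y, hy, rfl⟩)
    rw [e, conj_eq_one_iff] at k
    rw [k]; exact Commute.one_right _)
  refine h'.top (Core.pCore_quotient_pCore 2) ⟨d', hd', rfl⟩ cl nc (top_le_iff.1 ?_)
  rw [← map_top_of_surjective π (QuotientGroup.mk'_surjective _),
    ← closure_closure_coe_preimage (k := insert x T), MonoidHom.map_closure]
  refine closure_mono ?_
  rintro _ ⟨y, hy | hy, rfl⟩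
  · exact Or.inl (congrArg π (Subtype.ext hy))
  · have m : y ∈ E := h.sub_cl hT' hx hn hy
    refine Or.inr ⟨⟨y, m, rfl⟩, ?_⟩
    rintro _ ⟨v, hv, rfl⟩
    have m1 := h.cl_sub hT' hx hv
    exact ⟨fun k => Commute.map (f := π) (Subtype.ext (((hT hy).2 _ m1).1
      (congrArg Subtype.val (lift _ hv _ m k).eq)).eq), fun k => Commute.map (f := π)
      (Subtype.ext (((hT hy).2 _ m1).2 (congrArg Subtype.val (lift _ hv _ hd' k).eq)).eq)⟩

theorem ec_eq {G : Type*} [Group G] (D : Set G) (d : G) : sameCommutingClass D d = EC D d := by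
  ext y
  refine and_congr_right fun _ => ⟨fun k v hv => ?_, fun k => Set.ext fun v => ?_⟩
  · have := Set.ext_iff.1 k v
    simp only [commutingMembers, Set.mem_ofPred_eq, hv, true_and] at this
    exact this.symm
  · exact and_congr_right fun hv => (k v hv).symm

end Cfsg.Agent.OTr
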