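import Mathlib
import Cfsg.Agent.OTr.E
import Cfsg.Agent.S0200

/-! Odd transpositions: the classes `E_d` are groups. -/

namespace Cfsg.Agent.OTr

open Subgroup Cfsg.Agent.PTr Cfsg.Agent.Root Cfsg.Agent.RankOne

variable {G : Type*} [Group G] [Finite G] {D : Set G}

theorem disc_LW (h : OT D) (hD : IsRootInvolutionSet D)
    (hDD : (D ∩ commutingProducts D).Nonempty) {d x : G} (hd : d ∈ D) (hx : x ∈ D) (hn : ¬ Cn D d x)
    {z a b y : G} (z2 : z * z = 1) (ha : a ∈ D) (hb : b ∈ D) (hy : y ∈ D) (za : Commute z a)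
    (k : Commute b (z * b * z)) (n : ¬ Commute a b) : Commute y (z * y * z) := by
  have cj : ∀ y ∈ D, z * y * z ∈ D := fun y hy => by simpa only [inv_eq z2] using hD.conj_mem y hy z
  by_cases z1 : QuotientGroup.mk' (twoZCore G) z = 1
  · exact h.lift hy (cj y hy) (by rw [map_mul, map_mul, z1, one_mul, mul_one])
  obtain ⟨w, hw, e⟩ := disc_inv h hD hDD hd hx hn z1 (by rw [← map_mul, z2, map_one])
  have k1 := k.map (QuotientGroup.mk' (twoZCore G))
  rw [map_mul, map_mul, ← e, ← map_mul, ← map_mul] at k1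
  have k2 : Commute b w := by
    by_contra k2; exact h.nc_conj hb hw k2 (h.lift hb (h.conjD b hb w hw) k1)
  exact absurd (disc_tr hD hDD hd hx hn ha hw hb (h.lift hw ha (e ▸ za.map _)).symm k2.symm) n

theorem OT.LW (h : OT D) {p q : G} (hp : p ∈ D) (hq : q ∈ D) (hpq : p * q ∈ D)
    {d x : G} (hd : d ∈ D) (hx : x ∈ D) (hn : ¬ Cn D d x) {z a b y : G} (hz : z ∈ closure D)
    (z2 : z * z = 1) (ha : a ∈ D) (hb : b ∈ D) (hy : y ∈ D) (za : Commute z a)
    (k : Commute b (z * b * z)) (n : ¬ Commute a b) : Commute y (z * y * z) :=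
  congrArg Subtype.val (disc_LW h.sub' h.ri.riSet_sub (dd_of_mul_mem (RI.of_set h.ri.riSet_sub)
    (a := ⟨p, subset_closure hp⟩) (b := ⟨q, subset_closure hq⟩) hp hq hpq)
    (d := ⟨d, subset_closure hd⟩) (x := ⟨x, subset_closure hx⟩) hd hx (fun k => hn (cn_sub k))
    (z := ⟨z, hz⟩) (a := ⟨a, subset_closure ha⟩) (b := ⟨b, subset_closure hb⟩)
    (y := ⟨y, subset_closure hy⟩) (Subtype.ext z2) ha hb hy (Subtype.ext za.eq) (Subtype.ext k.eq)
    fun k => n (congrArg Subtype.val k.eq)).eq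

theorem OT.cl_disc' (h : OT D) {T : Set G} {x a a' b : G} (hT : T ⊆ D) (hx : x ∈ D)
    (hn : ∀ t ∈ T, ¬ Commute t x) (ha : a ∈ T) (ha' : a' ∈ T) (haa : a * a' ∈ D) (hb : b ∈ T)
    (he : ∀ v ∈ Cl T x, Commute v b → Commute v x → ∀ t ∈ T, Commute v t) :
    ¬ Cn (Cl T x) b x := fun k => by
  obtain ⟨_, ⟨g, hg, rfl⟩, k1, k2⟩ := goal _ _ rfl (h.cl_ot hT hx) (h.cl_pp hT hx hn ha ha' haa)
    b (h.sub_cl hT hx hn hb) x self_mem_cl k
  have : Commute (g * x * g⁻¹) g := comm_cl (S := insert x T) (fun s hs =>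
    hs.elim (fun e => e ▸ k2) fun ht => he _ ⟨g, hg, rfl⟩ k1 k2 _ ht) hg
  have e : g * x * g⁻¹ = x := by
    have t := this.eq
    rw [inv_mul_cancel_right] at t
    exact (mul_left_cancel t).symm
  exact hn b hb (e ▸ k1).symm

omit [Finite G] in
theorem ec_self {d : G} (hd : d ∈ D) : d ∈ EC D d := ⟨hd, fun _ _ => Iff.rfl⟩

omit [Finite G] in
theorem ec_eq_of {d a : G} (ha : a ∈ EC D d) : EC D a = EC D d :=
  Set.ext fun _ => and_congr_right fun _ => forall₂_congr fun v hv => by rw [ha.2 v hv]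

omit [Finite G] in
theorem OT.ec_pp (h : OT D) {d a b : G} (ha : a ∈ EC D d) (hb : b ∈ D) (hab : a * b ∈ D) :
    b ∈ EC D d :=
  ⟨hb, fun v hv => ⟨fun k => (ha.2 v hv).1 (h.tri' ha.1 hb hab hv k),
    fun k => h.tri ha.1 hb hab hv ((ha.2 v hv).2 k)⟩⟩

/-- the standing hypotheses -/
structure WW (D : Set G) : Prop where
  ot : OT D
  pp : PP D
  cj : ∀ d ∈ D, ∀ g : G, g * d * g⁻¹ ∈ D
  one : ∀ a ∈ D, ∀ b ∈ D, ∃ g : G, b = g * a * g⁻¹
  gen : closure D = ⊤
  nb : ∀ d ∈ D, ∀ x ∈ D, ∃ y ∈ D, Commute y d ∧ Commute y x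
  hO : pCore 2 G = ⊥

namespace WW

variable (W : WW D)
include W

omit [Finite G] in
theorem ec_conj {d y : G} (hy : y ∈ EC D d) (g : G) : g * y * g⁻¹ ∈ EC D (g * d * g⁻¹) :=
  ⟨W.cj y hy.1 g, fun v hv => by
    have := hy.2 _ (W.cj v hv g⁻¹)
    rw [← Commute.conj_iff g, ← Commute.conj_iff (b := d) g] at this
    simpa [mul_assoc] using this⟩

theorem ec_of_sub {a b : G} (ha : a ∈ D) (hb : b ∈ D) (k : ∀ v ∈ D, Commute v a → Commute v b) :
    b ∈ EC D a := by
  have h := W.ot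
  have e : ∀ c ∈ D, ∀ y, y ∈ AS D c ↔ y ∈ D ∧ ¬ Commute y c := fun c hc y =>
    and_congr_right fun hy => ⟨fun o k => OP2.not_comm (h.sq hc) (h.sq hy) o k.symm.eq,
      fun n => ⟨fun e => n (e ▸ Commute.refl _), h.odd hc hy fun k => n k.symm⟩⟩
  have := h.ri.AS_eq_of_subset (fun a ha b hb => (W.one a ha b hb).imp fun g k =>
    ⟨W.gen ▸ mem_top g, k⟩) hb ha fun y hy => (e a ha y).2
      ⟨hy.1, fun k1 => ((e b hb y).1 hy).2 (k y hy.1 k1)⟩
  refine ⟨hb, fun v hv => ⟨fun k1 => ?_, k v hv⟩⟩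
  by_contra n
  exact ((e b hb v).1 (this ▸ (e a ha v).2 ⟨hv, n⟩)).2 k1

theorem ec_of_cl {d x w : G} (hd : d ∈ D) (hx : x ∈ D) (n : ¬ Commute d x) (hw : w ∈ D)
    (hc : w ∈ closure (insert x (EC D d))) (wd : Commute w d) : w ∈ EC D d := by
  have h := W.ot
  have F : ∀ z, Commute z x → (∀ a ∈ EC D d, Commute z a) → Commute z w := fun z c1 c2 =>
    comm_cl (fun s hs => hs.elim (fun k => k ▸ c1) (c2 s)) hc
  refine W.ec_of_sub hd hw fun v hv vd => ?_
  by_cases vx : Commute v x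
  · exact F v vx fun a ha => (ha.2 v hv).2 vd
  obtain ⟨d', hd', hdd⟩ := W.pp d hd
  have key : ∀ a ∈ EC D d, ¬ Commute x (a * v * x * (a * v)) → Commute v w := fun a ha k => by
    have va := (ha.2 v hv).2 vd
    have wa := (ha.2 w hw).2 wd
    by_cases e : a = v
    · exact e ▸ wa.symm
    obtain ⟨w', C⟩ := h.exists_cen ha.1 hv hx va.symm e k
    exact (h.cen_ab ha.1 hv C (fun k => n ((ha.2 x hx).1 k).symm) hw (F _ C.jc.symm fun b hb =>
      ((EC.comm ha hb).mul_left ((hb.2 v hv).2 vd)).mul_left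
        ((hb.2 _ C.mem).2 ((ha.2 _ C.mem).1 C.wa))).symm wa).symm
  exact (h.exists_nc hd hd' hdd hv hx vd.symm fun k => n k.symm).elim (key d (ec_self hd))
    (key d' (h.ec_pp (ec_self hd) hd' hdd))

theorem ec_of_cl' {d x w : G} (hd : d ∈ D) (hx : x ∈ D) (n : ¬ Commute d x) (hw : w ∈ D)
    (hc : w ∈ closure (insert x (EC D d))) (wx : Commute w x) : w ∈ EC D x := by
  have h := W.ot
  obtain ⟨m, hm, k, e, -⟩ := h.swap hd hx n
  have m2 := h.sq hm
  have mX : m ∈ closure (insert x (EC D d)) := closure_mono (by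
    rintro _ (rfl | rfl)
    exacts [Or.inr (ec_self hd), Or.inl rfl]) k
  have := W.ec_conj (W.ec_of_cl hd hx n (h.conjD w hw m hm) (mul_mem (mul_mem mX hc) mX) (by
    have := wx.conj m
    rw [← e, inv_eq m2] at this
    simpa only [mul_assoc, mul_mul_of_sq m2, m2, mul_one] using this)) m
  rwa [inv_eq m2, e, mul_assoc m w, mul_mul_of_sq m2, mul_assoc, m2, mul_one] at this

theorem disc {d x : G} (hd : d ∈ D) (hx : x ∈ D) (n : ¬ Commute d x) : ¬ Cn (Cl (EC D d) x) d x := by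
  obtain ⟨d', hd', hdd⟩ := W.pp d hd
  exact W.ot.cl_disc' (fun _ k => k.1) hx (fun t ht k => n ((ht.2 x hx).1 k.symm).symm)
    (ec_self hd) (W.ot.ec_pp (ec_self hd) hd' hdd) hdd (ec_self hd) fun v hv k _ t ht =>
      (ht.2 v (W.ot.cl_sub (fun _ k => k.1) hx hv)).2 k

section T

variable {d t : G} (hd : d ∈ D) (ht : t ∈ closure (EC D d))
include hd ht

omit hd in
theorem t_sq : t * t = 1 := sq_closure (fun _ ha _ hb => (EC.comm ha hb).eq)
  (fun _ ha => W.ot.sq ha.1) t ht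

omit [Finite G] W hd in
theorem t_comm {y : G} (hy : y ∈ D) (k : Commute y d) : Commute y t :=
  comm_cl (fun s hs => (hs.2 y hy).2 k) ht

theorem m_ec {x : G} (hx : x ∈ D) (n : ¬ Commute d x) (k : Commute x (t * x * t)) :
    t * x * t ∈ EC D x := by
  have tX : t ∈ closure (insert x (EC D d)) := closure_mono (Set.subset_insert _ _) ht
  exact W.ec_of_cl' hd hx n (by simpa only [inv_eq (W.t_sq ht)] using W.cj x hx t)
    (mul_mem (mul_mem tX (subset_closure (Or.inl rfl))) tX) k.symm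

theorem m_adj {x y : G} (hx : x ∈ D) (hy : y ∈ D) (n : ¬ Commute d x) (k : Commute x (t * x * t))
    (ny : ¬ Commute d y) (c : Commute y x) : Commute y (t * y * t) := by
  have h := W.ot
  have t2 := W.t_sq ht
  by_contra k1
  obtain ⟨w, hw, wc, wy, wt, yw⟩ := h.mid hy (W.gen ▸ mem_top t) t2 k1
  have hT : EC D d ⊆ D := fun _ k => k.1
  have hn : ∀ a ∈ EC D d, ¬ Commute a y := fun a ha k => ny ((ha.2 y hy).1 k.symm).symm
  have tY : t ∈ closure (insert y (EC D d)) := closure_mono (Set.subset_insert _ _) ht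
  have wY : w ∈ closure (insert y (EC D d)) := (closure_le _).2 (by
    rintro _ (rfl | rfl)
    exacts [subset_closure (Or.inl rfl), tY]) wc
  obtain ⟨d', hd', hdd⟩ := W.pp d hd
  have dE := ec_self hd
  have dE' := h.ec_pp dE hd' hdd
  have wd : Commute w d := by
    by_contra n1
    exact k1 ((h.cl_ot hT hy).LW (h.sub_cl hT hy hn dE) (h.sub_cl hT hy hn dE')
      (h.mul_mem_cl hT hy hn dE dE' hdd) (h.sub_cl hT hy hn dE) self_mem_cl (W.disc hd hy ny)
      (h.le_cl hT hy hn tY) t2 (h.sub_cl hT hy hn dE) (h.mem_cl hy hw wY wy) self_mem_cl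
      (t_comm ht hd (Commute.refl d)).symm (by rw [← wt.eq, mul_assoc, t2, mul_one])
      fun k => n1 k.symm)
  have e : w * y * w = t * y * t := by
    have := yw.eq
    calc w * y * w = t * (t * w * y) * w := by rw [mul_assoc t w, mul_mul_of_sq t2]
      _ = t * y * t := by rw [← this, mul_assoc, mul_assoc, mul_assoc t w, h.sq hw]; group
  have c1 : Commute x (t * y * t) := by
    have := (((W.m_ec hd ht hx n k).2 y hy).2 c).conj t
    rw [inv_eq t2, mul_assoc t x, mul_mul_of_sq t2, mul_assoc x, t2, mul_one] at this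
    exact this.symm
  exact n (((W.ec_of_cl hd hy ny hw wY wd).2 x hx).1
    (h.comm_of_nc hy hw (fun k => wy k.symm) c.symm (e ▸ c1))).symm

theorem m_all {x y : G} (hx : x ∈ D) (hy : y ∈ D) (n : ¬ Commute d x) (k : Commute x (t * x * t))
    (ny : ¬ Commute d y) : Commute y (t * y * t) := by
  have h := W.ot
  by_contra k1
  have hT : insert x (EC D d) ⊆ D := Set.insert_subset hx fun _ k => k.1
  have hn : ∀ a ∈ insert x (EC D d), ¬ Commute a y := by
    rintro a (rfl | ha) k2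
    exacts [k1 (W.m_adj hd ht hx hy n k ny k2.symm), ny ((ha.2 y hy).1 k2.symm).symm]
  obtain ⟨d', hd', hdd⟩ := W.pp d hd
  have dE : d ∈ insert x (EC D d) := Or.inr (ec_self hd)
  have dE' : d' ∈ insert x (EC D d) := Or.inr (h.ec_pp (ec_self hd) hd' hdd)
  have xE : x ∈ insert x (EC D d) := Or.inl rfl
  refine k1 ((h.cl_ot hT hy).LW (h.sub_cl hT hy hn dE) (h.sub_cl hT hy hn dE')
    (h.mul_mem_cl hT hy hn dE dE' hdd) (h.sub_cl hT hy hn xE) self_mem_cl
    (h.cl_disc' hT hy hn dE dE' hdd xE fun v hv vx vy => ?_) (h.le_cl hT hy hn (closure_mono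
      ((Set.subset_insert _ _).trans (Set.subset_insert _ _)) ht)) (W.t_sq ht)
    (h.sub_cl hT hy hn dE) (h.sub_cl hT hy hn xE) self_mem_cl
    (t_comm ht hd (Commute.refl d)).symm k n)
  have hv' := h.cl_sub hT hy hv
  have vd : Commute d v := by
    by_contra nv
    exact k1 (W.m_adj hd ht hv' hy nv (W.m_adj hd ht hx hv' n k nv vx) ny vy.symm)
  rintro s (rfl | hs)
  exacts [vx, (hs.2 v hv').2 vd.symm]

end T

theorem m_one {d t x : G} (hd : d ∈ D) (ht : t ∈ closure (EC D d)) (hx : x ∈ D)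
    (n : ¬ Commute d x) (k : Commute x (t * x * t)) : t = 1 := by
  haveI := Fact.mk Nat.prime_two
  have t2 := W.t_sq ht
  have N : ∀ y ∈ D, t * y * t⁻¹ ∈ EC D y := fun y hy => by
    rw [inv_eq t2]
    by_cases ny : Commute d y
    · rw [← (t_comm ht hy ny.symm).eq, mul_assoc, t2, mul_one]; exact ec_self hy
    · exact W.m_ec hd ht hy ny (W.m_all hd ht hx hy n k ny)
  by_contra t1
  obtain ⟨g, g1, g2, g3⟩ := S0200.result t (orderOf_eq_prime (by rw [pow_two, t2]) t1)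
    fun N hN hp k => t1 (mem_bot.1 (W.hO ▸ Core.le_pCore hN hp k))
  have vE : g * t * g⁻¹ * t * (g * t * g⁻¹)⁻¹ ∈ closure (EC D d) := by
    refine conj_mem_closure (fun s hs => subset_closure ?_) t ht
    have := W.ec_conj (N _ (W.cj s hs.1 g⁻¹)) g
    rw [show g * (g⁻¹ * s * g⁻¹⁻¹) * g⁻¹ = s by group, ec_eq_of hs] at this
    convert this using 1
    group
  have c := W.t_sq (mul_mem ht vE)
  have e : t * (g * t * g⁻¹ * t * (g * t * g⁻¹)⁻¹) = (g⁻¹ * g⁻¹) * (g⁻¹ * g⁻¹) := by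
    have e1 : t * g * t = g⁻¹ := by rw [← g3, inv_eq t2]
    rw [mul_inv_rev, mul_inv_rev, inv_inv, inv_eq t2]
    calc _ = t * g * t * g⁻¹ * (t * g * t) * g⁻¹ := by group
      _ = _ := by rw [e1]; group
  rw [e] at c
  refine g1 (eq_one_of_odd_of_pow_two_pow g2 (k := 3) ?_)
  rw [← inv_eq_one, ← inv_pow, ← c, show 2 ^ 3 = 8 from rfl]
  simp only [pow_succ, pow_zero, one_mul, mul_assoc]

theorem exists_nc {d : G} (hd : d ∈ D) : ∃ x ∈ D, ¬ Commute d x := by
  by_contra! H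
  exact not_mem_center W.hO (W.ot.two d hd)
    (mem_center_iff.2 fun g => (comm_cl H (W.gen ▸ mem_top g)).symm.eq)

theorem ec_mul {d a b : G} (hd : d ∈ D) (ha : a ∈ EC D d) (hb : b ∈ EC D d) (n : a ≠ b) :
    a * b ∈ EC D d := by
  have h := W.ot
  obtain ⟨x, hx, nx⟩ := W.exists_nc hd
  have ab : a * b ∈ closure (EC D d) := mul_mem (subset_closure ha) (subset_closure hb)
  obtain ⟨w, C⟩ := h.exists_cen ha.1 hb.1 hx (EC.comm ha hb) n fun k => n (by
    rw [← inv_eq (h.sq hb.1)]; exact eq_inv_of_mul_eq_one_left (W.m_one hd ab hx nx k))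
  have wE : w ∈ EC D d := W.ec_of_cl hd hx nx C.mem ((closure_le _).2 (by
    rintro _ (rfl | rfl)
    exacts [subset_closure (Or.inl rfl), closure_mono (Set.subset_insert _ _) ab]) C.cl)
    ((ha.2 w C.mem).1 C.wa)
  have j := mul_mem ab (subset_closure wE)
  have j1 := W.m_one hd j hx nx (by rw [← C.jc.eq, mul_assoc, W.t_sq j, mul_one])
  rwa [eq_inv_of_mul_eq_one_left j1, inv_eq (h.sq C.mem)]

theorem ec_group {d : G} (hd : d ∈ D) : (closure (EC D d) : Set G) = EC D d ∪ {1} := by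
  refine Set.Subset.antisymm (fun y hy => ?_) (Set.union_subset subset_closure (by simp))
  induction hy using closure_induction with
  | mem y hy => exact Or.inl hy
  | one => exact Or.inr rfl
  | mul a b _ _ ha hb =>
    rcases ha with ha | rfl
    · rcases hb with hb | rfl
      · by_cases n : a = b
        · exact Or.inr (by rw [n, W.ot.sq hb.1]; rfl)
        · exact Or.inl (W.ec_mul hd ha hb n)
      · rw [mul_one]; exact Or.inl ha
    · rwa [one_mul]
  | inv a _ ha =>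
    rcases ha with ha | rfl
    · rw [inv_eq (W.ot.sq ha.1)]; exact Or.inl ha
    · exact Or.inr inv_one

end WW

end Cfsg.Agent.OTr
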