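import Mathlib
import Cfsg.Agent.OTr.F
import Cfsg.Agent.Suz.Borel

/-! Odd transpositions: disconnected classes once more. -/

namespace Cfsg.Agent.OTr

open Subgroup Cfsg.Agent.PTr Cfsg.Agent.Root Cfsg.Agent.RankOne

variable {G : Type*} [Group G] [Finite G] {D : Set G}

theorem two_of_cs {N : Subgroup G} [N.Normal] (hN : N ≤ center G)
    (h2 : ∀ d ∈ D, d * d = 1) (hD : closure D = ⊤) (h : CS (G ⧸ N)) : IsPGroup 2 N := by
  haveI := Fact.mk Nat.prime_two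
  refine IsPGroup.iff_card.2 ⟨_, Nat.eq_prime_pow_of_unique_prime_dvd Nat.card_pos.ne'
    fun {p} hp hd => ?_⟩
  by_contra p2
  haveI := Fact.mk hp
  obtain ⟨z, hz⟩ := exists_prime_orderOf_dvd_card' p hd
  have zc : (z : G) ∈ center G := hN z.2
  have zo : orderOf (z : G) = p := by rw [Subgroup.orderOf_coe, hz]
  have zp : IsPGroup p (zpowers (z : G)) := IsPGroup.of_card (n := 1) (by
    rw [Nat.card_zpowers, zo, pow_one])
  obtain ⟨P, hP⟩ := zp.exists_le_sylow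
  haveI := h p p2 (P.mapSurjective (QuotientGroup.mk'_surjective N))
  haveI : IsMulCommutative (P : Subgroup G) := MonoidHom.isMulCommutative_of_isCyclic_of_ker_le_center
    (G' := P.mapSurjective (QuotientGroup.mk'_surjective N)) ((QuotientGroup.mk' N).subgroupMap P)
    fun a ha => mem_center_iff.2 fun b => Subtype.ext
      (mem_center_iff.1 (hN ((QuotientGroup.eq_one_iff _).1 (congrArg Subtype.val ha))) b)
  open scoped IsMulCommutative in
  have t1 : ∀ g : G, MonoidHom.transfer (MonoidHom.id (P : Subgroup G)) g = 1 := fun g => by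
    have hg : g ∈ closure D := hD ▸ mem_top g
    refine (closure_le (MonoidHom.ker _)).2 (fun d hd => ?_) hg
    obtain ⟨k, hk⟩ := P.isPGroup' (MonoidHom.transfer (MonoidHom.id (P : Subgroup G)) d)
    exact eq_one_of_cop (m := 2) (n := p ^ k)
      (Nat.Coprime.pow_right _ ((Nat.coprime_primes Nat.prime_two hp).2 (Ne.symm p2)))
      (by rw [pow_two, ← map_mul, h2 d hd, map_one]) hk
  open scoped IsMulCommutative in
  have t2 := MonoidHom.transfer_eq_pow (MonoidHom.id (P : Subgroup G)) (z : G) fun k g _ => by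
    rw [mul_assoc, ← mem_center_iff.1 (pow_mem zc k) g, inv_mul_cancel_left]
  rw [t1] at t2
  have t3 := orderOf_dvd_of_pow_eq_one (congrArg Subtype.val t2).symm
  exact P.not_dvd_index (zo ▸ t3)

theorem gen_case2 {Ω : Type*} [MulAction G Ω] [FaithfulSMul G Ω] [IsSimpleGroup G] {a : Ω} {t : G}
    {Q : Subgroup G} (hS : Cfsg.IsRankOneSetup G Ω a t Q) (h2 : Suz.TwoRank G) {T : Set G}
    (hT : ∀ y ∈ T, y ∈ Q ∧ y * y = 1) (hg : closure (insert t T) = ⊤) {g : G} (hga : g • a ≠ a) :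
    ∃ q₁ ∈ Q, ∃ q₂ ∈ Q, ∃ b ∈ Q, b ≠ 1 ∧ b * b = 1 ∧ g = q₁ * (t * b * t) * q₂ := by
  obtain ⟨F, _, _, _, ⟨Z⟩⟩ := Suz.exists_ZF hS h2
  have hW := Suz.weak hS h2
  have hL : Suz.ZF.LL t Q = ⊤ := top_le_iff.1 (hg ▸ (closure_le _).2 (by
    rintro _ (rfl | hy)
    · exact Suz.ZF.t_mem_LL _ Q
    · exact Suz.ZF.Q_le_LL t Q (hT _ hy).1))
  have hK : Suz.DD a t ≤ Z.Ks := by
    rcases hW.cases with h | ⟨hn, h | ⟨h, ω, hω, hω', ζ, hζ, hζt, hζ', g, hg', d, hd, e⟩⟩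
    · exact Z.D_le_sl hL h
    · obtain ⟨θ, ⟨C⟩⟩ := Z.exists_szc_one hW.two hn (Z.qOf_eq ▸ h)
      exact Z.D_le_sz hL C
    · exfalso
      have hsp := Z.special hW.two hn
      have hω1 : ω ∈ Z.N := ⟨hω, fun e => hω' (Z.mem_Zs'.mp e).2⟩
      have hζ1 : ζ ∈ Suz.WW a t := Z.mem_WW.mpr ⟨hζ, fun b => hζ' _ (Z.z_mem b) (Z.z_mul_self b)⟩
      refine Z.beta_ne hsp hω1 hζ1 ⟨hω, hg', hd, Suz.D_inv_conj_Q hS hζ (inv_mem hω), e⟩ ?_
      refine Suz.eq_one_of_cent_Q hS hζ fun x _ => (comm_cl (S := insert t T) ?_ (hg ▸ mem_top x)).eq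
      rintro _ (rfl | hy)
      · exact hζt
      · exact hζ' _ (hT _ hy).1 (hT _ hy).2
  obtain ⟨u, y, hu, hy, rfl⟩ := Setup.canon_exists hS hga
  obtain ⟨q, hq, k, k1, k2, rfl⟩ := Setup.exists_mul hS hu
  obtain ⟨l, hl, rfl⟩ := Z.mem_Ks.1 (hK ⟨k1, k2⟩)
  obtain ⟨m, rfl⟩ := Suz.exists_sq l
  have hm : m⁻¹ ≠ 0 := inv_ne_zero fun e => hl (by rw [e]; simp)
  have r := Z.rel_z_sq hm
  refine ⟨_, mul_mem hq (inv_mem r.mg), _, mul_mem (inv_mem r.mf) hy, _, r.mx,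
    fun e => pow_ne_zero 2 hm (Z.z_eq_one.1 e), Z.z_mul_self _, ?_⟩
  rw [r.eq, inv_inv]
  group

theorem exists_fix_conj {P : Subgroup G} (hP : IsPGroup 2 P) {S : Set G}
    (hS : ∀ g ∈ P, ∀ y ∈ S, g * y * g⁻¹ ∈ S) (ho : ¬ 2 ∣ S.ncard) :
    ∃ y ∈ S, ∀ g ∈ P, Commute g y := by
  letI : MulAction G G := MulAction.compHom G (MulAut.conj (G := G))
  obtain ⟨y, hy, k⟩ := Ben.exists_fix_of_not_dvd (Ω := G) Nat.prime_two hP (Set.toFinite S) hS ho
  exact ⟨y, hy, fun g hg => mul_inv_eq_iff_eq_mul.1 (Ben.mem_Fx.1 k hg)⟩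

section Disc

variable (h : OT D) (hD : IsRootInvolutionSet D)
  (hDD : (D ∩ commutingProducts D).Nonempty) {d x : G} (hd : d ∈ D) (hx : x ∈ D) (hn : ¬ Cn D d x)
include h hD hDD hd hx hn

theorem disc_setup : ∃ (H : Subgroup (G ⧸ twoZCore G)) (a : (G ⧸ twoZCore G) ⧸ H)
    (Q : Subgroup (G ⧸ twoZCore G)), FaithfulSMul (G ⧸ twoZCore G) ((G ⧸ twoZCore G) ⧸ H) ∧
    IsRankOneSetup _ _ a (QuotientGroup.mk' _ x) Q ∧
    ∀ y ∈ D, (Commute y d ↔ QuotientGroup.mk' (twoZCore G) y • a = a) := by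
  haveI := disc_simple hD hDD hd hx hn
  obtain ⟨H, hH⟩ := disc_se hD hDD hd hx hn
  obtain ⟨t, Q, hS⟩ := Ben.simple_setup hH
  haveI := Ben.faithful_of_simple hH.1
  have h2 := disc_twoRank hD hDD hd hx hn
  have n1 := fun a (ha : a ∈ D) => disc_ne_one hD hd hx hn ha
  have h' := h.map (QuotientGroup.mk' (twoZCore G)) n1
  obtain ⟨c, hc⟩ := Setup.exists_fix hS (h'.sq ⟨d, hd, rfl⟩)
  have k : ∀ y ∈ D, (Commute y d ↔ QuotientGroup.mk' (twoZCore G) y • c = c) := fun y hy =>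
    ⟨fun k => fix_of_comm hS (n1 d hd) (h'.sq ⟨d, hd, rfl⟩) hc (k.symm.map _), fun k =>
      h.lift hy hd (comm_of_fix hS h2 (h'.sq ⟨y, hy, rfl⟩) (h'.sq ⟨d, hd, rfl⟩) k hc)⟩
  obtain ⟨g, rfl⟩ := Setup.exists_smul_eq hS ((1 : G ⧸ twoZCore G) : _ ⧸ H) c
  exact ⟨H, _, _, inferInstance, Setup.change_t (Setup.conj hS g) (h'.sq ⟨x, hx, rfl⟩) fun e =>
    hn (cn_of_comm hd hx ((k x hx).2 e).symm), k⟩

theorem disc_two {v : G} (hv : v ∈ D) (n : ¬ Commute v d) :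
    ∃ g : G, Commute (g * d * g⁻¹) d ∧ Commute (g * v * g⁻¹) x := by
  obtain ⟨H, a, Q, _, hS, k⟩ := disc_setup h hD hDD hd hx hn
  have h' := h.map (QuotientGroup.mk' (twoZCore G)) fun a ha => disc_ne_one hD hd hx hn ha
  obtain ⟨b, hb⟩ := Setup.exists_fix hS (h'.sq ⟨v, hv, rfl⟩)
  obtain ⟨c, hc⟩ := Setup.exists_fix hS (h'.sq ⟨x, hx, rfl⟩)
  obtain ⟨q, hq, rfl⟩ := Setup.exists_smul_eq_of_ne hS (c := b) (d := c)
    (by rintro rfl; exact n ((k v hv).2 hb)) (by rintro rfl; exact Setup.ta_ne hS hc)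
  obtain ⟨g, rfl⟩ := QuotientGroup.mk'_surjective _ q
  have ga := Setup.smul_a_of_mem hS hq
  refine ⟨g, (k _ (hD.conj_mem d hd g)).2 ?_, h.lift (hD.conj_mem v hv g) hx
    (comm_of_fix hS (disc_twoRank hD hDD hd hx hn) (h'.sq ⟨_, hD.conj_mem v hv g, rfl⟩)
      (h'.sq ⟨x, hx, rfl⟩) ?_ hc)⟩
  · rw [map_mul, map_mul, map_inv, mul_smul, mul_smul, inv_smul_eq_iff.2 ga.symm,
      (k d hd).1 (Commute.refl d), ga]
  · rw [map_mul, map_mul, map_inv, mul_smul, mul_smul, inv_smul_smul, hb]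

theorem disc_cen (inj : ∀ a ∈ D, ∀ b ∈ D, QuotientGroup.mk' (twoZCore G) a =
    QuotientGroup.mk' (twoZCore G) b → a = b) : twoZCore G ≤ center G := fun z hz =>
  mem_center_iff.2 fun g => (comm_cl (fun y hy => mul_inv_eq_iff_eq_mul.1
    (inj _ (hD.conj_mem y hy z) y hy (by
      rw [map_mul, map_mul, map_inv, QuotientGroup.mk'_apply _ z, (QuotientGroup.eq_one_iff z).2 hz,
        one_mul, inv_one, mul_one]))) (hD.generates ▸ mem_top g)).symm.eq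

theorem disc_Q (inj : ∀ a ∈ D, ∀ b ∈ D, QuotientGroup.mk' (twoZCore G) a =
    QuotientGroup.mk' (twoZCore G) b → a = b) {Ω : Type*} [MulAction (G ⧸ twoZCore G) Ω]
    [FaithfulSMul (G ⧸ twoZCore G) Ω] {a : Ω} {t : G ⧸ twoZCore G} {Q : Subgroup (G ⧸ twoZCore G)}
    (hS : IsRankOneSetup _ _ a t Q) {s y : G} (hs : QuotientGroup.mk' (twoZCore G) s ∈ Q)
    (hy : y ∈ D) (k : QuotientGroup.mk' (twoZCore G) y • a = a) : Commute s y := by
  obtain ⟨F, _, _, _, ⟨Z⟩⟩ := Suz.exists_ZF hS (disc_twoRank hD hDD hd hx hn)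
  have y2 : QuotientGroup.mk' (twoZCore G) y * QuotientGroup.mk' (twoZCore G) y = 1 := by
    rw [← map_mul, h.sq hy, map_one]
  obtain ⟨b, e⟩ := Z.z_surj _ (Setup.mem_Q_of_mul_self hS k y2) y2
  exact mul_inv_eq_iff_eq_mul.1 (inj _ (hD.conj_mem y hy s) y hy (by
    rw [map_mul, map_mul, map_inv, e, ← Z.z_comm b hs, mul_inv_cancel_right]))

/-- data of the Suzuki case -/
structure SzD (D : Set G) (d x : G) (X Q : Subgroup G) : Prop where
  le : Q ≤ X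
  two : IsPGroup 2 Q
  cen : ∀ s ∈ Q, ∀ a ∈ D, a ∈ X → ¬ Commute a x → Commute a d → Commute s a
  bru : ∀ g ∈ X, Commute (g * d * g⁻¹) d ∨
    ∃ q₁ ∈ Q, ∃ q₂ ∈ Q, ∃ b ∈ D, b ∈ X ∧ g = q₁ * (x * b * x) * q₂
  four : ∃ s ∈ Q, ∃ a ∈ D, a ∈ X ∧ ¬ Commute a x ∧ ∃ z ∈ Q, (∀ g ∈ X, Commute z g) ∧ s * s = a * z

theorem disc_XS (G1 : ∀ a ∈ D, ∀ b ∈ D, Commute a b → a ≠ b → a * b ∈ D)
    (one : ∀ a ∈ D, ∀ b ∈ D, ∃ g : G, b = g * a * g⁻¹)
    (hg : closure (insert x {y | y ∈ D ∧ Commute y d}) = ⊤) :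
    (∃ (F : Type) (_ : Field F) (_ : Fintype F),
      Fintype.card F = Nat.card (insert 1 {y | y ∈ D ∧ Commute y d} : Set G) ∧
      Nonempty (G ≃* Matrix.ProjectiveSpecialLinearGroup (Fin 2) F)) ∨ ∃ Q, SzD D d x ⊤ Q := by
  haveI := Fact.mk Nat.prime_two
  haveI := disc_simple hD hDD hd hx hn
  obtain ⟨H, a, Q, _, hS, k⟩ := disc_setup h hD hDD hd hx hn
  have h2 := disc_twoRank hD hDD hd hx hn
  have n1 := fun a (ha : a ∈ D) => disc_ne_one hD hd hx hn ha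
  have h' := h.map (QuotientGroup.mk' (twoZCore G)) n1
  set π := QuotientGroup.mk' (twoZCore G) with hπ
  have inj : ∀ a ∈ D, ∀ b ∈ D, π a = π b → a = b := fun a ha b hb e => by
    by_contra n
    exact n1 _ (G1 a ha b hb (h.lift ha hb (e ▸ Commute.refl _)) n)
      (by rw [map_mul, e]; exact h'.sq ⟨b, hb, rfl⟩)
  have cen := disc_cen h hD hDD hd hx hn inj
  have hT : ∀ y ∈ π '' {y | y ∈ D ∧ Commute y d}, y ∈ Q ∧ y * y = 1 := by
    rintro _ ⟨y, hy, rfl⟩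
    exact ⟨Setup.mem_Q_of_mul_self hS ((k y hy.1).1 hy.2) (h'.sq ⟨y, hy.1, rfl⟩),
      h'.sq ⟨y, hy.1, rfl⟩⟩
  have hg' : closure (insert (π x) (π '' {y | y ∈ D ∧ Commute y d})) = ⊤ := by
    rw [← Set.image_insert_eq, ← MonoidHom.map_closure, hg]
    exact map_top_of_surjective _ (QuotientGroup.mk'_surjective _)
  have sur : ∀ u ∈ Q, u * u = 1 → ∃ y ∈ (insert 1 {y | y ∈ D ∧ Commute y d} : Set G), π y = u :=
    fun u hu u2 => by
      by_cases u1 : u = 1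
      · exact ⟨1, Or.inl rfl, by rw [map_one, u1]⟩
      obtain ⟨y, hy, rfl⟩ := disc_inv h hD hDD hd hx hn u1 u2
      exact ⟨y, Or.inr ⟨hy, (k y hy).2 (Setup.smul_a_of_mem hS hu)⟩, rfl⟩
  have ker : ∀ {s y : G}, π y = π s → y⁻¹ * s ∈ twoZCore G := fun e => QuotientGroup.eq.1 e
  obtain ⟨F, _, _, _, f4, fq, r⟩ := gen_case hS h2 hT hg'
  have z2 : IsPGroup 2 (twoZCore G) := two_of_cs cen (fun d hd => h.sq hd) hD.generates
    (r.elim (fun k => k.2.elim fun e => CS.of_equiv e (cs_psl F)) fun k => cs_sz k.2)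
  rcases r with ⟨hQ, ⟨e⟩⟩ | ⟨⟨s, hs, s2⟩, -⟩
  · refine Or.inl ⟨F, inferInstance, inferInstance, fq.trans (Nat.card_congr (Set.BijOn.equiv π
      (s := insert 1 {y | y ∈ D ∧ Commute y d})
      (t := {u | u ∈ Q ∧ u * u = 1}) ⟨?_, ?_, fun u hu => sur u hu.1 hu.2⟩)).symm, ?_⟩
    · rintro y (rfl | hy)
      · rw [map_one]; exact ⟨one_mem _, mul_one 1⟩
      · exact hT _ ⟨y, hy, rfl⟩
    · rintro y (rfl | hy) y' (rfl | hy') e
      · rfl
      · exact absurd (e.symm.trans (map_one _)) (n1 _ hy'.1)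
      · exact absurd (e.trans (map_one _)) (n1 _ hy.1)
      · exact inj _ hy.1 _ hy'.1 e
    haveI : IsMulCommutative (Q.comap π) := ⟨⟨fun u v => Subtype.ext (by
      obtain ⟨y, hy, e⟩ := sur _ u.2 (hQ _ u.2)
      have c : Commute (v : G) y := hy.elim (fun e => e ▸ Commute.one_right _) fun hy =>
        disc_Q h hD hDD hd hx hn inj hS v.2 hy.1 ((k y hy.1).1 hy.2)
      have := c.mul_right (mem_center_iff.1 (cen (ker e)) v)
      rw [mul_inv_cancel_left] at this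
      exact this.symm.eq)⟩⟩
    obtain ⟨_, hab, p, hp, q, hq, -, -, rfl⟩ := id hDD
    open scoped IsMulCommutative in
    have t1 : ∀ g : G, MonoidHom.transfer (MonoidHom.id (Q.comap π)) g = 1 := fun g => by
      have c : ∀ y ∈ D, MonoidHom.transfer (MonoidHom.id (Q.comap π)) y =
          MonoidHom.transfer (MonoidHom.id (Q.comap π)) p := fun y hy => by
        obtain ⟨g, rfl⟩ := one p hp y hy
        rw [map_mul, map_mul, map_inv, mul_inv_cancel_comm]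
      have c1 := c _ hab
      rw [map_mul, c q hq, mul_eq_left] at c1
      exact (closure_le (MonoidHom.ker _)).2 (fun y hy => (c y hy).trans c1)
        (hD.generates ▸ mem_top g)
    have z : twoZCore G = ⊥ := eq_bot_iff.2 fun z hz => by
      open scoped IsMulCommutative in
      have t2 := MonoidHom.transfer_eq_pow (MonoidHom.id (Q.comap π)) z fun k g _ => by
        rw [mul_assoc, ← mem_center_iff.1 (pow_mem (cen hz) k) g, inv_mul_cancel_left]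
      rw [t1] at t2
      obtain ⟨m, hm⟩ := z2 ⟨z, hz⟩
      refine eq_one_of_cop (m := 2 ^ m) (n := (Q.comap π).index) (Nat.Coprime.pow_left _
        (Nat.coprime_two_left.2 ?_)) (congrArg Subtype.val hm) (congrArg Subtype.val t2).symm
      rw [index_comap_of_surjective _ (QuotientGroup.mk'_surjective _)]
      exact Suz.odd_index_Q hS
    exact ⟨((QuotientGroup.quotientMulEquivOfEq z).trans QuotientGroup.quotientBot).symm.trans e⟩
  refine Or.inr ⟨Q.comap π, le_top, (Suz.weak hS h2).two.comap_of_ker_isPGroup π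
    (by rw [hπ, QuotientGroup.ker_mk']; exact z2), fun s hs y hy _ _ c =>
      disc_Q h hD hDD hd hx hn inj hS hs hy ((k y hy).1 c), fun g _ => ?_, ?_⟩
  · by_cases ga : π g • a = a
    · refine Or.inl ((k _ (hD.conj_mem d hd g)).2 ?_)
      rw [map_mul, map_mul, map_inv, mul_smul, mul_smul, inv_smul_eq_iff.2 ga.symm,
        (k d hd).1 (Commute.refl d), ga]
    obtain ⟨q₁, h1, q₂, h3, b, hb, b1, b2, e⟩ := gen_case2 hS h2 hT hg' ga
    obtain ⟨q₁, rfl⟩ := QuotientGroup.mk'_surjective _ q₁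
    obtain ⟨y, hy, rfl⟩ := disc_inv h hD hDD hd hx hn b1 b2
    refine Or.inr ⟨q₁, h1, (q₁ * (x * y * x))⁻¹ * g, ?_, y, hy, mem_top _, by group⟩
    rw [mem_comap, map_mul, map_inv, e, map_mul, map_mul, map_mul, inv_mul_cancel_left]
    exact h3
  · obtain ⟨s, rfl⟩ := QuotientGroup.mk'_surjective _ s
    obtain ⟨y, hy, e⟩ := disc_inv h hD hDD hd hx hn s2 (by
      simpa [pow_succ, mul_assoc] using (Suz.weak hS h2).pow_four _ hs)
    have yd := (k y hy).2 (e ▸ Setup.smul_a_of_mem hS (mul_mem hs hs))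
    have m := ker (e.trans (map_mul _ _ _).symm)
    refine ⟨s, hs, y, hy, mem_top _, fun c => hn (cn_of_comm hd hx
      (disc_tr hD hDD hd hx hn hd hy hx yd.symm c)), _, ?_,
      fun g _ => (mem_center_iff.1 (cen m) g).symm, (mul_inv_cancel_left _ _).symm⟩
    rw [mem_comap, hπ, QuotientGroup.mk'_apply, (QuotientGroup.eq_one_iff _).2 m]
    exact one_mem _

end Disc

end Cfsg.Agent.OTr
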