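import Mathlib
import Cfsg.Agent.OTr.G

/-! Odd transpositions: a 2-group normalised by the rank one subgroup. -/

namespace Cfsg.Agent.OTr

open Subgroup Cfsg.Agent.PTr Cfsg.Agent.Root Cfsg.Agent.RankOne

variable {G : Type*} [Group G] [Finite G] {D : Set G}

section Disc

variable (h : OT D) (hD : IsRootInvolutionSet D)
  (hDD : (D ∩ commutingProducts D).Nonempty) {d x : G} (hd : d ∈ D) (hx : x ∈ D) (hn : ¬ Cn D d x)
  (one : ∀ a ∈ D, ∀ b ∈ D, ∃ g : G, b = g * a * g⁻¹)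
include h hD hDD hd hx hn one

theorem disc_G1 (hP : PP D) (inj : ∀ a ∈ D, ∀ b ∈ D, QuotientGroup.mk' (twoZCore G) a =
    QuotientGroup.mk' (twoZCore G) b → a = b) {b : G} (hb : b ∈ D) (c : Commute d b) (n : d ≠ b) :
    d * b ∈ D := by
  classical
  obtain ⟨H, a, Q, _, hS, k⟩ := disc_setup h hD hDD hd hx hn
  have n1 := fun a (ha : a ∈ D) => disc_ne_one hD hd hx hn ha
  have h' := h.map (QuotientGroup.mk' (twoZCore G)) n1
  have cen := disc_cen h hD hDD hd hx hn inj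
  set π := QuotientGroup.mk' (twoZCore G) with hπ
  let P : Set G := {y | y ∈ D ∧ Commute y d}
  have tr : ∀ y ∈ P, ∀ y' ∈ D, Commute y' y → y' ∈ P := fun y hy y' hy' c =>
    ⟨hy', disc_tr hD hDD hd hx hn hy' hy.1 hd c hy.2⟩
  haveI : IsMulCommutative (closure P) := ⟨⟨fun u v => Subtype.ext (comm_closure (fun y hy y' hy' =>
    (disc_tr hD hDD hd hx hn hy.1 hd hy'.1 hy.2 hy'.2.symm).eq) _ u.2 _ v.2)⟩⟩
  have nm : ∀ g : G, g * d * g⁻¹ ∈ P → g ∈ normalizer (closure P : Set G) := fun g hg =>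
    mem_normalizer_fintype (conj_mem_closure fun y hy => subset_closure
      (tr _ hg _ (hD.conj_mem y hy.1 g) (hy.2.conj g)))
  let φ := (closure P).normalizerMonoidHom
  haveI : Fintype φ.range := Fintype.ofFinite _
  have qc : ∀ s ∈ Q.comap π, ∀ y ∈ closure P, Commute s y := fun s hs y hy =>
    comm_cl (fun y hy => disc_Q h hD hDD hd hx hn inj hS hs hy.1 ((k y hy.1).1 hy.2)) hy
  have dP : d ∈ P := ⟨hd, Commute.refl d⟩
  have od : Odd (Fintype.card φ.range) := by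
    rw [← Nat.card_eq_fintype_card, ← index_ker]
    refine Odd.of_dvd_nat (Suz.odd_index_Q hS) ?_
    rw [← index_comap_of_surjective _ (QuotientGroup.mk'_surjective (twoZCore G))]
    refine (index_dvd_of_le (H := (Q.comap π).subgroupOf _) fun s hs => ?_).trans
      (relIndex_dvd_index_of_le fun s hs => nm s (by
        rw [(qc s hs d (subset_closure dP)).eq, mul_inv_cancel_right]; exact dP))
    ext y
    exact mul_inv_eq_iff_eq_mul.2 (qc s hs y y.2).eq
  open scoped IsMulCommutative in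
  let ν : closure P → closure P := fun v => ∏ γ : φ.range, γ.1 v
  open scoped IsMulCommutative in
  have ν1 : ∀ u v, ν (u * v) = ν u * ν v := fun u v => by
    simp only [ν, map_mul, Finset.prod_mul_distrib]
  open scoped IsMulCommutative in
  have ν2 : ∀ y (hy : y ∈ P), ν ⟨y, subset_closure hy⟩ = ν ⟨d, subset_closure dP⟩ := fun y hy => by
    obtain ⟨g, rfl⟩ := one d hd y hy.1
    exact Fintype.prod_equiv (Equiv.mulRight (⟨φ ⟨g, nm g hy⟩, ⟨_, rfl⟩⟩ : φ.range)) _ _ fun γ => rfl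
  obtain ⟨d', hd', hdd⟩ := hP d hd
  have dd := h.comm_of_mul hd hd' hdd
  have ν3 : ν ⟨d, subset_closure dP⟩ = 1 := by
    have := ν1 ⟨d, subset_closure dP⟩ ⟨d', subset_closure ⟨hd', dd.symm⟩⟩
    rw [ν2 d' ⟨hd', dd.symm⟩] at this
    exact mul_eq_left.1 (this.symm.trans (ν2 _ ⟨hdd, (Commute.refl d).mul_left dd.symm⟩))
  obtain ⟨w, hw, e⟩ := disc_inv h hD hDD hd hx hn (z := π d * π b) (fun e => n (inj d hd b hb (by
    rw [eq_inv_of_mul_eq_one_left e, inv_eq (h'.sq ⟨b, hb, rfl⟩)])))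
    (sq_of_comm (h'.sq ⟨d, hd, rfl⟩) (h'.sq ⟨b, hb, rfl⟩) (c.map π))
  have wP : w ∈ P := ⟨hw, h.lift hw hd (by rw [e]; exact (Commute.refl _).mul_left (c.symm.map π))⟩
  have bP : b ∈ P := ⟨hb, c.symm⟩
  have jc : w⁻¹ * (d * b) ∈ center G := cen (QuotientGroup.eq.1 (e.trans (map_mul π _ _).symm))
  rw [inv_eq (h.sq hw)] at jc
  let j : closure P := ⟨w, subset_closure wP⟩ * (⟨d, subset_closure dP⟩ * ⟨b, subset_closure bP⟩)
  have j2 : j * j = 1 := Subtype.ext (sq_closure (fun y hy y' hy' =>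
    (disc_tr hD hDD hd hx hn hy.1 hd hy'.1 hy.2 hy'.2.symm).eq) (fun y hy => h.sq hy.1) _ j.2)
  have j1 : ν j = 1 := by rw [ν1, ν1, ν2 w wP, ν2 b bP, ν3, one_mul, one_mul]
  open scoped IsMulCommutative in
  have j3 : ν j = j := by
    have : ∀ γ : φ.range, γ.1 j = j := by
      rintro ⟨_, g, rfl⟩
      exact Subtype.ext (mul_inv_eq_iff_eq_mul.2 (mem_center_iff.1 jc g))
    simp only [ν, this, Finset.prod_const, Finset.card_univ, pow_odd_of_sq j2 od]
  have : w * (d * b) = 1 := congrArg Subtype.val (j3.symm.trans j1)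
  rwa [eq_inv_of_mul_eq_one_right this, inv_eq (h.sq hw)]

theorem disc_LS (hP : PP D) {b : G} (hb : b ∈ D) (c : Commute d b) (n : d ≠ b) (nb : d * b ∉ D)
    {Q : Subgroup G} (hQ : IsPGroup 2 Q) (qd : ∀ s ∈ Q, Commute s d) :
    ∃ c ∈ pCore 2 G, c ≠ 1 ∧ d * c ∈ D ∧ ∀ s ∈ Q, Commute s c := by
  haveI := Fact.mk Nat.prime_two
  obtain ⟨p, hp, q, hq, e, pq⟩ : ∃ a ∈ D, ∃ b ∈ D, QuotientGroup.mk' (twoZCore G) a =
      QuotientGroup.mk' (twoZCore G) b ∧ a ≠ b := by
    by_contra! inj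
    exact nb (disc_G1 h hD hDD hd hx hn one hP inj hb c n)
  obtain ⟨g, rfl⟩ := one d hd p hp
  have hu := hD.conj_mem q hq g⁻¹
  set u := g⁻¹ * q * g⁻¹⁻¹ with hu'
  have e1 : QuotientGroup.mk' (twoZCore G) d = QuotientGroup.mk' (twoZCore G) u := by
    rw [hu', map_mul, map_mul, ← e]; simp [mul_assoc]
  have du : Commute d u := h.lift hd hu (e1 ▸ Commute.refl _)
  have m1 : d * u ∈ twoZCore G := by
    rw [← inv_eq (h.sq hd)]; exact QuotientGroup.eq.1 e1
  have m2 : d * u ∈ pCore 2 G := by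
    by_contra m2
    exact not_mem_center (Core.pCore_quotient_pCore 2) (orderOf_eq_prime (by
      rw [pow_two, ← QuotientGroup.mk_mul, sq_of_comm (h.sq hd) (h.sq hu) du]; rfl)
      fun k => m2 ((QuotientGroup.eq_one_iff _).1 k)) m1
  have dx : ¬ Commute d x := fun k => hn (cn_of_comm hd hx k)
  let Y : Set G := {y | y ∈ D ∧ d * y ∈ pCore 2 G}
  have hN : (pCore 2 G).Normal := inferInstance
  have ev : 2 ∣ Y.ncard := by
    by_contra ev
    obtain ⟨y, hy, k⟩ := exists_fix_conj (Core.pCore_isPGroup 2) (S := Y) (fun r hr y hy =>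
      ⟨hD.conj_mem y hy.1 r, by
        convert mul_mem (mul_mem (hN.conj_mem r hr d) hy.2) (inv_mem hr) using 1; group⟩) ev
    obtain ⟨g', rfl⟩ := one y hy.1 x hx
    have := (k _ (hN.conj_mem _ m2 g'⁻¹)).conj g'
    rw [show g' * (g'⁻¹ * (d * u) * g'⁻¹⁻¹) * g'⁻¹ = d * u by group] at this
    refine pq ?_
    rw [h.eq_of_comm_mul hd hu hx du dx (fun k => dx (disc_tr hD hDD hd hx hn hd hu hx du k))
      this.symm, hu']
    group
  have dY : d ∈ Y := ⟨hd, by rw [h.sq hd]; exact one_mem _⟩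
  obtain ⟨y, ⟨hy, yd⟩, k⟩ := exists_fix_conj hQ (S := Y \ {d}) (fun s hs y hy =>
    ⟨⟨hD.conj_mem y hy.1.1 s, by
      rw [← mul_assoc, ← mul_assoc, ← (qd s hs).eq, mul_assoc s]; exact hN.conj_mem _ hy.1.2 s⟩,
      fun k => hy.2 (by
        have : s * y * s⁻¹ = s * d * s⁻¹ := by rw [(qd s hs).eq, mul_inv_cancel_right]; exact k
        simpa using this)⟩) (by
    have := Set.ncard_sdiff_singleton_add_one dY
    omega)
  refine ⟨_, hy.2, fun k => yd ?_, by rw [mul_mul_of_sq (h.sq hd)]; exact hy.1,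
    fun s hs => (qd s hs).mul_right (k s hs)⟩
  rw [eq_inv_of_mul_eq_one_right k, inv_eq (h.sq hd)]; rfl

end Disc

theorem OT.two_tr (h : OT D) {p q : G} (hp : p ∈ D) (hq : q ∈ D) (hpq : p * q ∈ D)
    {d x : G} (hd : d ∈ D) (hx : x ∈ D) (hn : ¬ Cn D d x) {v : G} (hv : v ∈ D) (n : ¬ Commute v d) :
    ∃ g ∈ closure D, Commute (g * d * g⁻¹) d ∧ Commute (g * v * g⁻¹) x := by
  obtain ⟨g, k1, k2⟩ := disc_two h.sub' h.ri.riSet_sub (dd_of_mul_mem (RI.of_set h.ri.riSet_sub)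
    (a := ⟨p, subset_closure hp⟩) (b := ⟨q, subset_closure hq⟩) hp hq hpq)
    (d := ⟨d, subset_closure hd⟩) (x := ⟨x, subset_closure hx⟩) hd hx (fun k => hn (cn_sub k))
    (v := ⟨v, subset_closure hv⟩) hv fun k => n (congrArg Subtype.val k.eq)
  exact ⟨g, g.2, congrArg Subtype.val k1.eq, congrArg Subtype.val k2.eq⟩

/-- the members commuting with `d` outside its class -/
def WS (D : Set G) (d : G) : Set G := {v | v ∈ D ∧ Commute v d ∧ v ∉ EC D d}

namespace WW

variable (W : WW D)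
include W

omit [Finite G] in
theorem ws_conj {d v : G} (hv : v ∈ WS D d) (g : G) : g * v * g⁻¹ ∈ WS D (g * d * g⁻¹) :=
  ⟨W.cj v hv.1 g, hv.2.1.conj g, fun k => hv.2.2 (by simpa [mul_assoc] using W.ec_conj k g⁻¹)⟩

omit [Finite G] W in
theorem ws_eq {d a : G} (ha : a ∈ EC D d) : WS D a = WS D d :=
  Set.ext fun v => and_congr_right fun hv => by rw [ha.2 v hv, ec_eq_of ha]

theorem exists_u {d x : G} (hd : d ∈ D) (hx : x ∈ D) (n : ¬ Commute d x) :
    ∃ u ∈ WS D d, ¬ Commute u x := by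
  have h := W.ot
  by_contra! H
  have nE : ∀ y ∈ D, Commute y d → y ∉ EC D x := fun y hy c k => n ((k.2 d hd).1 c.symm)
  have s1 : WS D d ⊆ WS D x := fun v hv => ⟨hv.1, H v hv, nE v hv.1 hv.2.1⟩
  have s2 : WS D x ⊆ WS D d := fun v hv => by
    obtain ⟨m, hm, -, e, -⟩ := h.swap hd hx n
    have m2 := h.sq hm
    have e' : m * x * m⁻¹ = d := by rw [← e, inv_eq m2]; simp only [mul_assoc, mul_mul_of_sq m2, m2, mul_one]
    have := W.ws_conj (s1 (e' ▸ W.ws_conj hv m)) m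
    rwa [e', inv_eq m2, mul_assoc m v, mul_mul_of_sq m2, mul_assoc, m2, mul_one] at this
  have cj : ∀ g : G, WS D (g * d * g⁻¹) = WS D d → ∀ v ∈ WS D d, g * v * g⁻¹ ∈ WS D d :=
    fun g e v hv => e ▸ W.ws_conj hv g
  have all : ∀ v ∈ D, ∀ y ∈ WS D d, v * y * v⁻¹ ∈ WS D d := fun v hv => by
    by_cases vd : Commute v d
    · exact cj v (by rw [vd.eq, mul_inv_cancel_right])
    suffices k : WS D v = WS D d by
      intro y hy
      have := W.ws_conj (k ▸ hy) v
      rwa [mul_inv_cancel_right, k] at this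
    by_cases vx : Commute v x
    · by_cases k : v ∈ EC D x
      · exact (ws_eq k).trans (s2.antisymm s1)
      · exact absurd (s2 ⟨hv, vx, k⟩).2.1 vd
    have hT : insert x (EC D d) ⊆ D := Set.insert_subset hx fun _ k => k.1
    have hn : ∀ a ∈ insert x (EC D d), ¬ Commute a v := by
      rintro a (rfl | ha) k
      exacts [vx k.symm, vd ((ha.2 v hv).1 k.symm)]
    obtain ⟨d', hd', hdd⟩ := W.pp d hd
    have dE : d ∈ insert x (EC D d) := Or.inr (ec_self hd)
    have dE' : d' ∈ insert x (EC D d) := Or.inr (h.ec_pp (ec_self hd) hd' hdd)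
    have xE : x ∈ insert x (EC D d) := Or.inl rfl
    have m1 := h.sub_cl hT hv hn dE
    have m2 := h.sub_cl hT hv hn dE'
    have m3 := h.mul_mem_cl hT hv hn dE dE' hdd
    have m4 := h.sub_cl hT hv hn xE
    have ho := h.cl_ot hT hv
    have nc := h.cl_disc' hT hv hn dE dE' hdd xE fun y hy yx yv => by
      have hy' := h.cl_sub hT hv hy
      have := s2 ⟨hy', yx, fun k => vx ((k.2 v hv).1 yv.symm)⟩
      rintro s (rfl | hs)
      exacts [yx, (hs.2 y hy').2 this.2.1]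
    have tr := fun {a b c : G} ha hb hc => ho.tr m1 m2 m3 m4 self_mem_cl nc (a := a) (b := b) (c := c)
      ha hb hc
    obtain ⟨g, hg, k1, k2⟩ := ho.two_tr m1 m2 m3 m1 self_mem_cl
      (fun k => hn d dE (ho.ri.comm_of_cn m1 m2 m3 m4 self_mem_cl nc m1 self_mem_cl k)) m4
      fun k => n k.symm
    have k3 : g * d * g⁻¹ ∈ EC D d := by
      by_contra k3
      exact n (tr m1 (ho.ri.conj_mem hg m1) m4 k1.symm (H _ ⟨W.cj d hd g, k1, k3⟩))
    have k4 : WS D (g * x * g⁻¹) = WS D d := by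
      refine Set.eq_of_subset_of_ncard_le (fun y hy => ?_) ?_
      · have := W.ws_conj (s2 (by simpa [mul_assoc] using W.ws_conj hy g⁻¹)) g
        rw [ws_eq k3] at this
        simpa [mul_assoc] using this
      · exact Set.ncard_le_ncard_of_injOn (fun y => g * y * g⁻¹) (fun y hy => W.ws_conj (s1 hy) g)
          fun _ _ _ _ e => by simpa using e
    by_cases k : v ∈ EC D (g * x * g⁻¹)
    · exact (ws_eq k).trans k4
    · exact absurd (k4.subset ⟨hv, k2.symm, k⟩).2.1 vd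
  obtain ⟨y, hy, yd, yx⟩ := W.nb d hd x hx
  obtain ⟨g, e⟩ := W.one y hy d hd
  have : ∀ g ∈ closure D, ∀ y ∈ WS D d, g * y * g⁻¹ ∈ WS D d := fun g hg => by
    induction hg using closure_induction'' with
    | mem v hv => exact all v hv
    | inv_mem v hv => rw [inv_eq (h.sq hv)]; exact all v hv
    | one => simp
    | mul a b _ _ ha hb => intro y hy; simpa [mul_assoc] using ha _ (hb y hy)
  have k := this g (W.gen ▸ mem_top g) y ⟨hy, yd, fun k => n ((k.2 x hx).1 yx.symm).symm⟩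
  rw [← e] at k
  exact k.2.2 (ec_self hd)

end WW

end Cfsg.Agent.OTr
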