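import Mathlib
import Cfsg.Agent.OTr.H

/-! Odd transpositions: the Suzuki groups do not occur. -/

namespace Cfsg.Agent.OTr

open Subgroup Cfsg.Agent.PTr Cfsg.Agent.Root Cfsg.Agent.RankOne

variable {G : Type*} [Group G] [Finite G] {D : Set G}

omit [Finite G] in
theorem odd_one {R : Subgroup G} (hR : IsPGroup 2 R) {y : G} (hy : y ∈ R) (ho : Odd (orderOf y)) :
    y = 1 := by
  obtain ⟨k, hk⟩ := hR ⟨y, hy⟩
  exact eq_one_of_odd_of_pow_two_pow ho (congrArg Subtype.val hk)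

theorem OT.comm_R (h : OT D) {R : Subgroup G} (hR : IsPGroup 2 R) {y y' : G} (hy : y ∈ D)
    (hy' : y' ∈ D) (k : y * y' * (y * y') ∈ R) : Commute y y' := by
  by_contra n
  exact n (comm_of_sq (h.sq hy) (h.sq hy') (odd_one hR k (by
    rw [← pow_two]; exact (h.odd hy hy' n).of_dvd_nat (orderOf_pow_dvd 2))))

namespace WW

variable (W : WW D) {d x : G} (hd : d ∈ D) (hx : x ∈ D) (n : ¬ Commute d x)
  {R : Subgroup G} (hR : IsPGroup 2 R)
  (nR : ∀ g ∈ closure (insert x (EC D d)), ∀ r ∈ R, g * r * g⁻¹ ∈ R)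
include W hR nR

theorem comm_two {a a' r r' : G} (ha : a ∈ D) (ha' : a' ∈ D) (aX : a ∈ closure (insert x (EC D d)))
    (aX' : a' ∈ closure (insert x (EC D d))) (c : Commute a a') (hr : r ∈ R) (hr' : r' ∈ R)
    (k : a * r ∈ D) (k' : a' * r' ∈ D) : Commute (a * r) (a' * r') := by
  refine W.ot.comm_R hR k k' ?_
  have m := mul_mem (nR _ (inv_mem aX') r hr) hr'
  have := mul_mem (nR _ (mul_mem aX aX') _ m) m
  rw [inv_eq (sq_of_comm (W.ot.sq ha) (W.ot.sq ha') c)] at this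
  convert this using 1
  group

theorem comm_one {a r : G} (ha : a ∈ D) (aX : a ∈ closure (insert x (EC D d))) (hr : r ∈ R) :
    Commute a (r * a * r⁻¹) := by
  have := W.comm_two hR nR ha ha aX aX (Commute.refl a) (one_mem R)
    (mul_mem (nR _ (inv_mem aX) r hr) (inv_mem hr)) (by rwa [mul_one])
    (by simpa [mul_assoc] using W.cj a ha r)
  simpa [mul_assoc] using this

include hd hx n

theorem triv_R {c : G} (hc : c ∈ R) (k : ∀ a ∈ EC D d, c * a ∈ D) : c = 1 := by
  have h := W.ot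
  obtain ⟨d', hd', hdd⟩ := W.pp d hd
  have dE := ec_self hd
  have dE' := h.ec_pp dE hd' hdd
  have e : c * d * (d * d') = c * d' := by rw [mul_assoc, mul_mul_of_sq (h.sq hd)]
  have ddE : d * d' ∈ EC D d := W.ec_mul hd dE dE' (h.ne_of_mul hd hdd)
  have m : c * d ∈ EC D d := ⟨k d dE, fun v hv => ⟨fun c1 => (ddE.2 v hv).1
    (h.tri (k d dE) hdd (e ▸ k d' dE') hv c1), fun c1 =>
      h.tri' (k d dE) hdd (e ▸ k d' dE') hv ((ddE.2 v hv).2 c1)⟩⟩
  by_contra c1
  have m1 := W.ec_mul hd m dE fun e => c1 (mul_eq_right.1 e)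
  rw [mul_assoc, h.sq hd, mul_one] at m1
  refine n ((m1.2 x hx).1 (h.comm_R hR hx m1.1 ?_)).symm
  have := mul_mem (nR x (subset_closure (Or.inl rfl)) c hc) hc
  rwa [inv_eq (h.sq hx), mul_assoc] at this

theorem szA {Q M : Subgroup G} (S : SzD D d x (closure (insert x (EC D d))) Q) (MR : M ≤ R)
    (nM : ∀ g ∈ closure (insert x (EC D d)), ∀ r ∈ M, g * r * g⁻¹ ∈ M)
    (cM : ∀ u ∈ M, ∀ v ∈ M, u * v = v * u) (M2 : ∀ u ∈ M, u * u = 1) {u s : G} (hu : u ∈ M)
    (uA : ∀ a ∈ EC D d, Commute u a) (hs : s ∈ Q) : Commute s u := by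
  have h := W.ot
  have xX : x ∈ closure (insert x (EC D d)) := subset_closure (Or.inl rfl)
  have su := nM s (S.le hs) u hu
  have x2 := h.sq hx
  suffices k : u * (s * u * s⁻¹) = 1 by
    have := eq_inv_of_mul_eq_one_right k
    rw [inv_eq (M2 u hu)] at this
    exact mul_inv_eq_iff_eq_mul.1 this
  refine W.triv_R hd hx n hR nR (MR (mul_mem hu su)) fun a ha => ?_
  have aX : a ∈ closure (insert x (EC D d)) := subset_closure (Or.inr ha)
  have ax : ¬ Commute a x := fun k => n ((ha.2 x hx).1 k.symm).symm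
  have a2 := h.sq ha.1
  have sa := S.cen s hs a ha.1 aX ax (EC.comm ha (ec_self hd))
  have om := h.odd ha.1 hx ax
  set m := orderOf (a * x) with hm
  have g1 : (a * x) ^ m = 1 := pow_orderOf_eq_one _
  have hr := nM _ (mul_mem aX xX)
  have N1 : ∀ y ∈ M, (y * (a * x)) ^ m ∈ M := fun y hy => by
    simpa only [g1, inv_one, mul_one] using (norm_mem hr).2 m y hy
  have N2 : ∀ y ∈ M, ∀ z ∈ M, (y * z * (a * x)) ^ m = (y * (a * x)) ^ m * (z * (a * x)) ^ m :=
    fun y hy z hz => by simpa only [g1, inv_one, mul_one] using norm_mul hr cM hy hz m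
  have N3 : ∀ y ∈ M, Commute y a → (y * (a * x)) ^ m = 1 → y * a ∈ D := fun y hy c e =>
    h.ri.mem_of_odd (sq_of_comm (M2 y hy) a2 c) hx (by
      rw [mul_assoc]; exact om.of_dvd_nat (orderOf_dvd_of_pow_eq_one e)) W.cj
  obtain ⟨u₀, hu₀⟩ : ∃ u₀, u₀ = (u * (a * x)) ^ m := ⟨_, rfl⟩
  have m0 : u₀ ∈ M := hu₀ ▸ N1 u hu
  have c1 : Commute u₀ (a * x) := by
    have := (show Commute u₀ u from cM _ m0 _ hu).mul_right
      (show Commute u₀ (u * (a * x)) from hu₀ ▸ (Commute.refl _).pow_left m)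
    rwa [mul_mul_of_sq (M2 u hu)] at this
  have c2 : Commute x u₀ := by
    have := (semi x2 (sq_of_comm (M2 u hu) a2 (uA a ha))).inv_right.pow_right m
    have e : x * (u * a) = (u * (a * x))⁻¹ := by
      rw [← mul_assoc u, mul_inv_rev, inv_eq x2, inv_eq (sq_of_comm (M2 u hu) a2 (uA a ha))]
    rwa [e, inv_inv, inv_pow, ← hu₀, inv_eq (M2 _ m0)] at this
  have c3 : Commute u₀ a := by
    have := c1.mul_right c2.symm
    rwa [mul_assoc, x2, mul_one] at this
  have e0 : (u₀ * (a * x)) ^ m = u₀ := by rw [c1.mul_pow, g1, mul_one, pow_odd_of_sq (M2 _ m0) om]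
  have m1 := mul_mem m0 hu
  have d1 : u₀ * u * a ∈ D := N3 _ m1 (c3.mul_left (uA a ha))
    (by rw [N2 _ m0 _ hu, e0, ← hu₀, M2 _ m0])
  have c4 : Commute u₀ s := comm_cl (S := insert x (EC D d)) (by
    rintro b (rfl | hb)
    · exact c2.symm
    · have := (((hb.2 _ d1).2 ((ha.2 _ d1).1 ((c3.mul_left (uA a ha)).mul_left
        (Commute.refl a)))).mul_left (EC.comm ha hb)).mul_left (uA b hb)
      rwa [mul_assoc _ a a, a2, mul_one, mul_assoc, M2 u hu, mul_one] at this) (S.le hs)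
  have m2 := nM s (S.le hs) _ m1
  have d2 : s * (u₀ * u) * s⁻¹ * a ∈ D := by
    convert W.cj _ d1 s using 1
    rw [mul_assoc _ s⁻¹, sa.inv_left.eq]; group
  have e2 : (s * (u₀ * u) * s⁻¹ * (a * x)) ^ m = 1 := by
    by_cases k : Commute (s * (u₀ * u) * s⁻¹ * a) x
    · have t := N1 _ m2
      rw [← mul_assoc, pow_odd_of_sq (sq_of_comm (h.sq d2) x2 k) om, mul_assoc] at t
      exact absurd (comm_of_sq a2 x2 (M2 _ ((mul_mem_cancel_left m2).1 t))) ax
    · refine odd_one hR (MR (N1 _ m2)) (Odd.of_dvd_nat ?_ (orderOf_pow_dvd m))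
      rw [← mul_assoc]; exact h.odd d2 hx k
  have e3 : u * (s * u * s⁻¹) = u₀ * u * (s * (u₀ * u) * s⁻¹) := by
    rw [← mul_assoc s, ← c4.eq, cM _ m0 _ hu]
    simp only [mul_assoc, mul_mul_of_sq (M2 _ m0)]
  refine N3 _ (mul_mem hu su) ((uA a ha).mul_left
    ((sa.mul_left (uA a ha)).mul_left sa.inv_left)) ?_
  rw [e3, N2 _ m1 _ m2, e2, N2 _ m0 _ hu, e0, ← hu₀, M2 _ m0, one_mul]

theorem no_sz {Q : Subgroup G} (S : SzD D d x (closure (insert x (EC D d))) Q) {c : G} (hc : c ∈ R)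
    (c1 : c ≠ 1) (dc : d * c ∈ D) (qc : ∀ s ∈ Q, Commute s c) : False := by
  have h := W.ot
  set X := closure (insert x (EC D d)) with hX
  have xX : x ∈ X := subset_closure (Or.inl rfl)
  have dX : d ∈ X := subset_closure (Or.inr (ec_self hd))
  have x2 := h.sq hx
  have d2 := h.sq hd
  have cd : Commute d (d * c) := by
    simpa using W.comm_two hR nR hd hd dX dX (Commute.refl d) (one_mem R) hc (by rwa [mul_one]) dc
  have c2 : c * c = 1 := by simpa only [mul_mul_of_sq d2] using sq_of_comm d2 (h.sq dc) cd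
  have cc : ∀ g ∈ X, Commute c (g * c * g⁻¹) := fun g hg => by
    rcases S.bru g hg with k | ⟨q₁, h1, q₂, h2, b, hb, bX, rfl⟩
    · have gd := W.cj d hd g
      have gX := mul_mem (mul_mem hg dX) (inv_mem hg)
      have gc := nR g hg c hc
      have gdc : g * d * g⁻¹ * (g * c * g⁻¹) ∈ D := by simpa [mul_assoc] using W.cj _ dc g
      have t1 := W.comm_two hR nR hd gd dX gX k.symm hc gc dc gdc
      have t2 := W.comm_two hR nR hd gd dX gX k.symm hc (one_mem R) dc (by rwa [mul_one])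
      have t3 := W.comm_two hR nR hd gd dX gX k.symm (one_mem R) gc (by rwa [mul_one]) gdc
      rw [mul_one] at t2 t3
      have := (k.symm.mul_right t3).mul_left (t2.mul_right t1)
      rwa [mul_mul_of_sq d2, mul_mul_of_sq (h.sq gd)] at this
    · have m := nR x xX c hc
      have m2 : x * c * x⁻¹ * (x * c * x⁻¹) = 1 := by simp [mul_assoc, c2, mul_mul_of_sq c2]
      have t1 := W.comm_one hR nR hb bX m
      rw [inv_eq m2] at t1
      have t2 := ((comm_swap t1).conj x).conj q₁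
      have e1 : q₁ * (x * (x * c * x⁻¹) * x⁻¹) * q₁⁻¹ = c := by
        rw [inv_eq x2, mul_assoc x c, mul_mul_of_sq x2, mul_assoc c, x2, mul_one, (qc _ h1).eq,
          mul_inv_cancel_right]
      rw [e1] at t2
      convert t2 using 1
      rw [mul_assoc _ q₂, (qc _ h2).eq]
      simp only [mul_inv_rev, inv_eq x2, inv_eq (h.sq hb), mul_assoc, mul_inv_cancel_left]
  let T : Set G := {y | ∃ g ∈ X, g * c * g⁻¹ = y}
  have cT : ∀ u ∈ T, ∀ v ∈ T, u * v = v * u := by
    rintro _ ⟨g, hg, rfl⟩ _ ⟨k, hk, rfl⟩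
    simpa [mul_assoc] using ((cc _ (mul_mem (inv_mem hg) hk)).conj g).eq
  have cM := comm_closure cT
  have M2 := sq_closure cT (by rintro _ ⟨g, -, rfl⟩; simp [mul_assoc, c2, mul_mul_of_sq c2])
  have MR : closure T ≤ R := (closure_le _).2 (by rintro _ ⟨g, hg, rfl⟩; exact nR g hg c hc)
  have nM : ∀ g ∈ X, ∀ r ∈ closure T, g * r * g⁻¹ ∈ closure T := fun g hg => conj_mem_closure (by
    rintro _ ⟨k, hk, rfl⟩; exact subset_closure ⟨g * k, mul_mem hg hk, by group⟩)
  have A := fun {u s : G} => W.szA hd hx n hR nR S MR nM cM M2 (u := u) (s := s)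
  obtain ⟨s, hs, a, ha, aX, ax, z, hz, zc, e⟩ := S.four
  have ss : ∀ u ∈ closure T, Commute (s * s) u := fun u hu => by
    have su := nM s (S.le hs) u hu
    have k : Commute s (u * (s * u * s⁻¹)) := A (mul_mem hu su) (fun b hb => by
      have bX : b ∈ X := subset_closure (Or.inr hb)
      have sb := S.cen s hs b hb.1 bX (fun k => n ((hb.2 x hx).1 k.symm).symm)
        (EC.comm hb (ec_self hd))
      have bu := nM b bX u hu
      have t1 := W.comm_one hR nR hb.1 bX (MR hu)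
      have t2 : Commute s (u * (b * u * b⁻¹)) := A (mul_mem hu bu) (fun b' hb' => by
        have := ((hb'.2 _ (W.cj b hb.1 u)).2 ((hb.2 _ (W.cj b hb.1 u)).1 t1.symm)).mul_left
          (EC.comm hb hb').inv_left
        rw [inv_eq (M2 u hu)] at this
        simpa only [mul_assoc] using this) hs
      have t3 : s * u * s⁻¹ * (b * (s * u * s⁻¹) * b⁻¹) = u * (b * u * b⁻¹) := by
        rw [← mul_inv_eq_iff_eq_mul.2 t2.eq, ← mul_assoc b, ← mul_assoc b, ← sb.eq,
          mul_assoc _ s⁻¹ b⁻¹, (sb.inv_inv).eq]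
        group
      have t4 : b * (u * (s * u * s⁻¹)) * b⁻¹ = u * (s * u * s⁻¹) := by
        have t5 := nM b bX _ su
        calc _ = b * u * b⁻¹ * (b * (s * u * s⁻¹) * b⁻¹) := by group
          _ = b * u * b⁻¹ * (s * u * s⁻¹ * (u * (b * u * b⁻¹))) := by
            rw [← t3, mul_mul_of_sq (M2 _ su)]
          _ = _ := by
            rw [cM _ bu _ (mul_mem su (mul_mem hu bu)), mul_assoc, mul_assoc u, M2 _ bu, mul_one,
              cM _ su _ hu]
      exact (mul_inv_eq_iff_eq_mul.1 t4).symm) hs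
    have k1 := mul_inv_eq_iff_eq_mul.2 k.eq
    have k2 : s * u * s⁻¹ * (s * s * u * (s * s)⁻¹) = s * u * s⁻¹ * u := by
      rw [cM _ su _ hu, ← k1]; group
    exact mul_inv_eq_iff_eq_mul.1 (mul_left_cancel k2)
  obtain ⟨m, hm, mX, e1, -⟩ := h.swap ha hx ax
  have mX' : m ∈ X := (closure_le _).2 (by
    rintro _ (rfl | rfl)
    exacts [aX, xX]) mX
  have t1 := (ss _ (subset_closure ⟨m, mX', rfl⟩)).mul_left
    (((zc m mX').mul_right (qc z hz)).mul_right (zc m mX').inv_right).inv_left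
  rw [e, mul_inv_cancel_right] at t1
  have t2 := t1.conj m
  have m2 := h.sq hm
  rw [inv_eq m2, e1, mul_assoc m c, mul_mul_of_sq m2, mul_assoc c, m2, mul_one] at t2
  refine c1 (mul_eq_left.1 (h.eq_of_comm_mul hd dc hx cd n (fun k => n ?_)
    (by rwa [mul_mul_of_sq d2])).symm)
  have := k.mul_left t2.symm
  rwa [mul_assoc, c2, mul_one] at this

end WW

end Cfsg.Agent.OTr
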