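import Mathlib
import Cfsg.Agent.OTr.I

/-! Odd transpositions: the rank one subgroups are `L₂(q)`. -/

namespace Cfsg.Agent.OTr

open Subgroup Cfsg.Agent.PTr Cfsg.Agent.Root Cfsg.Agent.RankOne

variable {G : Type*} [Group G] [Finite G] {D : Set G}

omit [Finite G] in
theorem OT.cl_one (h : OT D) {T : Set G} {x : G} (hT : T ⊆ D) (hx : x ∈ D)
    (hn : ∀ t ∈ T, ¬ Commute t x) : ∀ a ∈ {g : closure (Cl T x) | (g : G) ∈ Cl T x},
    ∀ b ∈ {g : closure (Cl T x) | (g : G) ∈ Cl T x}, ∃ g, b = g * a * g⁻¹ := by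
  rintro ⟨_, _⟩ ⟨g, hg, rfl⟩ ⟨_, _⟩ ⟨k, hk, rfl⟩
  exact ⟨⟨k * g⁻¹, h.le_cl hT hx hn (mul_mem hk (inv_mem hg))⟩, Subtype.ext (by simp [mul_assoc])⟩

omit [Finite G] in
theorem SzD.map (h : OT D) {T : Set G} {d x : G} (hT : T ⊆ D) (hx : x ∈ D)
    (hn : ∀ t ∈ T, ¬ Commute t x) {d' x' : closure (Cl T x)} (e1 : (d' : G) = d) (e2 : (x' : G) = x)
    {Q : Subgroup (closure (Cl T x))}
    (S : SzD {g : closure (Cl T x) | (g : G) ∈ Cl T x} d' x' ⊤ Q) :
    SzD D d x (closure (insert x T)) (Q.map (Subgroup.subtype _)) := by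
  have le : closure (Cl T x) ≤ closure (insert x T) := (closure_le _).2 fun _ => cl_le
  have ge := h.le_cl hT hx hn
  subst e1
  refine ⟨(map_subtype_le _).trans le, S.two.map _, ?_, fun g hg => ?_, ?_⟩
  · rintro _ ⟨s, hs, rfl⟩ a ha aX ax ad
    exact congrArg Subtype.val (S.cen s hs ⟨a, ge aX⟩ (h.mem_cl hx ha aX ax) (mem_top _)
      (fun k => ax (e2 ▸ congrArg Subtype.val k.eq)) (Subtype.ext ad.eq)).eq
  · rcases S.bru ⟨g, ge hg⟩ (mem_top _) with k | ⟨q₁, h1, q₂, h2, b, hb, -, e⟩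
    · exact Or.inl (congrArg Subtype.val k.eq)
    · exact Or.inr ⟨_, ⟨q₁, h1, rfl⟩, _, ⟨q₂, h2, rfl⟩, b, h.cl_sub hT hx hb, le b.2,
        by simpa [e2] using congrArg Subtype.val e⟩
  · obtain ⟨s, hs, a, ha, -, ax, z, hz, zc, e⟩ := S.four
    exact ⟨_, ⟨s, hs, rfl⟩, a, h.cl_sub hT hx ha, le a.2, fun k => ax (Subtype.ext (by simpa [e2] using k.eq)),
      _, ⟨z, hz, rfl⟩, fun g hg => congrArg Subtype.val (zc ⟨g, ge hg⟩ (mem_top _)).eq,
      congrArg Subtype.val e⟩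

namespace WW

variable (W : WW D) {d x : G} (hd : d ∈ D) (hx : x ∈ D) (n : ¬ Commute d x)
include W hd hx n

theorem no_sz' {Q : Subgroup G} (S : SzD D d x (closure (insert x (EC D d))) Q) : False := by
  have h := W.ot
  obtain ⟨u, ⟨hu, ud, uE⟩, ux⟩ := W.exists_u hd hx n
  have hT : insert u (EC D d) ⊆ D := Set.insert_subset hu fun _ k => k.1
  have hn : ∀ a ∈ insert u (EC D d), ¬ Commute a x := by
    rintro a (rfl | ha) k
    exacts [ux k, n ((ha.2 x hx).1 k.symm).symm]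
  obtain ⟨d', hd', hdd⟩ := W.pp d hd
  have dE := ec_self hd
  have dE' := h.ec_pp dE hd' hdd
  have m1 := h.sub_cl hT hx hn (Or.inr dE)
  have m2 := h.sub_cl hT hx hn (Or.inr dE')
  have m3 := h.mul_mem_cl hT hx hn (Or.inr dE) (Or.inr dE') hdd
  have m4 := h.sub_cl hT hx hn (Or.inl rfl)
  have ho := h.cl_ot hT hx
  have nc : ¬ Cn (Cl (insert u (EC D d)) x) d x := by
    refine h.cl_disc' hT hx hn (Or.inr dE) (Or.inr dE') hdd (Or.inr dE) fun v hv vd _ => ?_
    have hv' := h.cl_sub hT hx hv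
    have key : ∀ a ∈ EC D d, ¬ Commute x (a * u * x * (a * u)) → Commute v u := fun a ha k => by
      have ua := (ha.2 u hu).2 ud
      obtain ⟨w, C⟩ := h.exists_cen ha.1 hu hx ua.symm (by rintro rfl; exact uE ha) k
      refine h.cen_ab ha.1 hu C (fun k => n ((ha.2 x hx).1 k).symm) hv' (comm_cl ?_ (cl_le hv)).symm
        ((ha.2 v hv').2 vd)
      rintro s (rfl | rfl | hs)
      · exact C.jc.symm
      · exact (ua.symm.mul_left (Commute.refl _)).mul_left C.wb
      · exact ((EC.comm ha hs).mul_left ((hs.2 u hu).2 ud)).mul_left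
          ((hs.2 _ C.mem).2 ((ha.2 _ C.mem).1 C.wa))
    rintro s (rfl | hs)
    · exact (h.exists_nc hd hd' hdd hu hx ud.symm fun k => n k.symm).elim (key d dE) (key d' dE')
    · exact (hs.2 v hv').2 vd
  have hP := h.cl_pp hT hx hn (Or.inr dE) (Or.inr dE') hdd
  obtain ⟨c, hc, c1, dc, qc⟩ := disc_LS ho.sub' ho.ri.riSet_sub (dd_of_mul_mem
    (RI.of_set ho.ri.riSet_sub) (a := ⟨d, subset_closure m1⟩) (b := ⟨d', subset_closure m2⟩) m1 m2 m3)
    (d := ⟨d, subset_closure m1⟩) (x := ⟨x, subset_closure self_mem_cl⟩) m1 self_mem_cl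
    (fun k => nc (cn_sub k)) (h.cl_one hT hx hn) (fun y hy => by
      obtain ⟨y', k1, k2⟩ := hP y hy
      exact ⟨⟨y', subset_closure k1⟩, k1, k2⟩) (b := ⟨u, subset_closure m4⟩) m4
    (Subtype.ext ud.symm.eq) (fun e => uE (by rw [← show d = u from congrArg Subtype.val e]; exact dE))
    (fun k => uE (h.ec_pp dE hu (h.cl_sub hT hx k))) (Q := Q.comap (Subgroup.subtype _))
    S.two.comap_subtype fun s hs => Subtype.ext (S.cen s hs d hd (subset_closure (Or.inr dE)) n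
      (Commute.refl d)).eq
  have XL : closure (insert x (EC D d)) ≤ closure (Cl (insert u (EC D d)) x) :=
    (Subgroup.closure_mono (Set.insert_subset_insert (Set.subset_insert _ _))).trans (h.le_cl hT hx hn)
  refine W.no_sz hd hx n ((Core.pCore_isPGroup 2).map (Subgroup.subtype _)) ?_ S ⟨c, hc, rfl⟩
    (fun e => c1 (Subtype.ext e)) (h.cl_sub hT hx dc) fun s hs =>
      congrArg Subtype.val (qc ⟨s, XL (S.le hs)⟩ hs).eq
  rintro g hg _ ⟨r, hr, rfl⟩
  exact ⟨_, Normal.conj_mem inferInstance r hr ⟨g, XL hg⟩, rfl⟩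

theorem rank_one : ∃ (F : Type) (_ : Field F) (_ : Fintype F),
    Fintype.card F = Nat.card (closure (EC D d)) ∧
    Nonempty (closure (insert x (EC D d)) ≃* Matrix.ProjectiveSpecialLinearGroup (Fin 2) F) := by
  have h := W.ot
  have hT : EC D d ⊆ D := fun _ k => k.1
  have hn : ∀ a ∈ EC D d, ¬ Commute a x := fun a ha k => n ((ha.2 x hx).1 k.symm).symm
  obtain ⟨d', hd', hdd⟩ := W.pp d hd
  have dE := ec_self hd
  have dE' := h.ec_pp dE hd' hdd
  have m1 := h.sub_cl hT hx hn dE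
  have m2 := h.sub_cl hT hx hn dE'
  have m3 := h.mul_mem_cl hT hx hn dE dE' hdd
  have ho := h.cl_ot hT hx
  have ge := h.le_cl hT hx hn
  have eq : closure (Cl (EC D d) x) = closure (insert x (EC D d)) :=
    le_antisymm ((closure_le _).2 fun _ => cl_le) ge
  have one := h.cl_one hT hx hn
  have im : Subtype.val '' {y : closure (Cl (EC D d) x) | (y : G) ∈ Cl (EC D d) x ∧
      Commute y ⟨d, subset_closure m1⟩} = EC D d := by
    ext y
    constructor
    · rintro ⟨y, hy, rfl⟩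
      exact W.ec_of_cl hd hx n (h.cl_sub hT hx hy.1) (cl_le hy.1) (congrArg Subtype.val hy.2.eq)
    · exact fun hy => ⟨⟨y, ge (subset_closure (Or.inr hy))⟩, ⟨h.sub_cl hT hx hn hy,
        Subtype.ext (EC.comm hy dE).eq⟩, rfl⟩
  rcases disc_XS ho.sub' ho.ri.riSet_sub (dd_of_mul_mem
    (RI.of_set ho.ri.riSet_sub) (a := ⟨d, subset_closure m1⟩) (b := ⟨d', subset_closure m2⟩) m1 m2 m3)
    (d := ⟨d, subset_closure m1⟩) (x := ⟨x, subset_closure self_mem_cl⟩) m1 self_mem_cl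
    (fun k => W.disc hd hx n (cn_sub k)) (fun a ha b hb c ne => by
      obtain ⟨g, rfl⟩ := one ⟨d, subset_closure m1⟩ m1 a ha
      have hb' : ((g⁻¹ * b * g⁻¹⁻¹ : closure (Cl (EC D d) x)) : G) ∈ Cl (EC D d) x :=
        ho.ri.riSet_sub.conj_mem b hb g⁻¹
      have k := W.ec_mul hd dE (im.subset ⟨_, ⟨hb', by
        simpa [mul_assoc] using c.symm.conj g⁻¹⟩, rfl⟩) fun e => ne (Subtype.ext (by
          simp [e, mul_assoc]))
      simpa [mul_assoc] using cl_conj (eq.le g.2) (h.sub_cl hT hx hn k)) one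
    (top_le_iff.1 fun g _ => by
      refine (mem_map_iff_mem (subtype_injective _)).1 ((closure_le _).2 ?_ (eq.le g.2))
      rintro y (e | hy)
      · exact ⟨⟨x, subset_closure self_mem_cl⟩, subset_closure (Or.inl rfl), e.symm⟩
      · obtain ⟨y', k, e⟩ := im.superset hy
        exact ⟨y', subset_closure (Or.inr k), e⟩) with ⟨F, _, _, f, ⟨e⟩⟩ | ⟨Q, S⟩
  · refine ⟨F, _, _, f.trans ?_, ⟨(MulEquiv.subgroupCongr eq).symm.trans e⟩⟩
    rw [← Nat.card_image_of_injective Subtype.val_injective, Set.image_insert_eq]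
    erw [im]
    exact congrArg (fun s : Set G => Nat.card s) ((W.ec_group hd).trans Set.union_singleton).symm
  · exact (W.no_sz' hd hx n (S.map h hT hx hn rfl rfl)).elim

end WW

end Cfsg.Agent.OTr
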